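import Mathlib.GroupTheory.IsSubnormal
import Mathlib.GroupTheory.IsPerfect
import Mathlib.GroupTheory.QuotientGroup.Basic
import Cfsg.Prelude.Def_Local

/-!
Basic theory of subnormal subgroups, quasisimple groups, components, the layer and the
solvable radical.
-/

set_option autoImplicit false
set_option linter.style.haveILetI false

namespace CfsgLib.Comp

open Subgroup

variable {G : Type*} [Group G]

/-! ### Elementary helpers -/

theorem le_centralizer_of_commutator_eq_bot {A B : Subgroup G} (h : ⁅A, B⁆ = ⊥) :
    A ≤ centralizer (B : Set G) :=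
  commutator_eq_bot_iff_le_centralizer.mp h

/-- A perfect subgroup which centralizes `⁅K, H⁆` centralizes `K`. -/
theorem commutator_eq_bot_of_perfect {H K : Subgroup G} (hH : ⁅H, H⁆ = H)
    (h : ⁅⁅K, H⁆, H⁆ = ⊥) : ⁅K, H⁆ = ⊥ := by
  rw [commutator_comm, ← hH]
  apply commutator_commutator_eq_bot_of_rotate
  · rwa [commutator_comm H K]
  · exact h

theorem subgroupOf_normal_of_le_normalizer {H K : Subgroup G} (h : K ≤ normalizer (H : Set G)) :
    (H.subgroupOf K).Normal :=
  normal_subgroupOf_of_le_normalizer h

theorem normal_map_subtype_iff {K : Subgroup G} {N : Subgroup K} :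
    N.Normal ↔ K ≤ normalizer ((N.map K.subtype : Subgroup G) : Set G) := by
  rw [← normal_subgroupOf_iff_le_normalizer (map_subtype_le N), subgroupOf,
    comap_map_eq_self_of_injective K.subtype_injective]

theorem isSubnormal_map_subtype {K : Subgroup G} (hK : K.IsSubnormal) {N : Subgroup K}
    (hN : N.Normal) : (N.map K.subtype).IsSubnormal :=
  IsSubnormal.trans' hN.isSubnormal hK

theorem isSubnormal_commutator {K : Subgroup G} (hK : K.IsSubnormal) :
    (⁅K, K⁆).IsSubnormal := by
  rw [← map_subtype_commutator]
  exact isSubnormal_map_subtype hK inferInstance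

theorem map_subgroupOf_inf (H K : Subgroup G) : (H.subgroupOf K).map K.subtype = H ⊓ K :=
  subgroupOf_map_subtype H K

/-! ### Quasisimple groups -/

theorem isQuasisimple_of_equiv {A B : Type*} [Group A] [Group B] (e : A ≃* B)
    (h : Cfsg.IsQuasisimple A) : Cfsg.IsQuasisimple B := by
  obtain ⟨hp, hs⟩ := h
  haveI := hp
  refine ⟨Group.IsPerfect.ofSurjective (f := e.toMonoidHom) e.surjective, ?_⟩
  have hmap : (center A).map e.toMonoidHom = center B := by
    ext y
    simp only [mem_map, mem_center_iff]
    constructor
    · rintro ⟨x, hx, rfl⟩ g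
      have := hx (e.symm g)
      simpa using congrArg e this
    · intro hy
      refine ⟨e.symm y, fun g => ?_, by simp⟩
      have := congrArg e.symm (hy (e g))
      simpa using this
  exact (QuotientGroup.congr (center A) (center B) e hmap).symm.isSimpleGroup

section Quasisimple

variable {X : Type*} [Group X]

theorem quasisimple_nontrivial (hX : Cfsg.IsQuasisimple X) : Nontrivial X := by
  haveI := hX.2
  exact (QuotientGroup.mk'_surjective (center X)).nontrivial

theorem quasisimple_not_solvable (hX : Cfsg.IsQuasisimple X) : ¬ Group.IsSolvable X := by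
  haveI := hX.1
  haveI := quasisimple_nontrivial hX
  exact Group.IsPerfect.not_isSolvable X

theorem quasisimple_center_ne_top (hX : Cfsg.IsQuasisimple X) : center X ≠ ⊤ := by
  intro h
  haveI := hX.2
  exact QuotientGroup.nontrivial_iff.mp (inferInstance : Nontrivial (X ⧸ center X)) h

/-- The subnormal subgroups of a quasisimple group: the whole group and the central ones. -/
theorem quasisimple_subnormal (hX : Cfsg.IsQuasisimple X) {H : Subgroup X}
    (hH : H.IsSubnormal) : H = ⊤ ∨ H ≤ center X := by
  haveI := hX.1
  rcases IsSubnormal.eq_bot_or_top_of_isSimpleGroup hX.2 (hH.quotient (K := center X)) with h | h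
  · right
    rw [Subgroup.map_eq_bot_iff, QuotientGroup.ker_mk'] at h
    exact h
  · left
    have h1 : center X ⊔ H = ⊤ := by
      have := congrArg (comap (QuotientGroup.mk' (center X))) h
      rwa [comap_map_eq, QuotientGroup.ker_mk', comap_top, sup_comm] at this
    have hn : H.Normal := by
      rw [← normalizer_eq_top_iff, eq_top_iff, ← h1, sup_le_iff]
      exact ⟨(center_le_centralizer _).trans (centralizer_le_normalizer _), le_normalizer⟩
    have h2 : commutator X ≤ H :=
      Subgroup.Normal.commutator_le_of_self_sup_commutative_eq_top (by rw [sup_comm, h1])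
        inferInstance
    rw [Group.IsPerfect.commutator_eq_top] at h2
    exact top_le_iff.mp h2

theorem quasisimple_normal (hX : Cfsg.IsQuasisimple X) {H : Subgroup X}
    (hH : H.Normal) : H = ⊤ ∨ H ≤ center X :=
  quasisimple_subnormal hX hH.isSubnormal

end Quasisimple

/-! ### Components -/

theorem component_perfect {L : Subgroup G} (hL : Cfsg.IsComponent L) : ⁅L, L⁆ = L :=
  Subgroup.isPerfect_iff.mp hL.2.1

theorem component_not_solvable {L : Subgroup G} (hL : Cfsg.IsComponent L) :
    ¬ Group.IsSolvable L :=
  quasisimple_not_solvable hL.2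

theorem component_ne_bot {L : Subgroup G} (hL : Cfsg.IsComponent L) : L ≠ ⊥ := by
  intro h
  subst h
  exact component_not_solvable hL inferInstance

theorem component_not_comm {L : Subgroup G} (hL : Cfsg.IsComponent L) : ⁅L, L⁆ ≠ ⊥ := by
  rw [component_perfect hL]
  exact component_ne_bot hL

theorem component_not_le_solvable {L H : Subgroup G} (hL : Cfsg.IsComponent L)
    (hH : Group.IsSolvable H) : ¬ L ≤ H := fun hle => by
  haveI := hH
  exact component_not_solvable hL
    (Group.isSolvable_of_isSolvable_injective (f := inclusion hle) (inclusion_injective hle))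

theorem component_subgroupOf {L H : Subgroup G} (hL : Cfsg.IsComponent L) (hle : L ≤ H) :
    Cfsg.IsComponent (L.subgroupOf H) :=
  ⟨hL.1.subgroupOf, isQuasisimple_of_equiv (subgroupOfEquivOfLe hle).symm hL.2⟩

theorem component_map_subtype {H : Subgroup G} (hH : H.IsSubnormal) {K : Subgroup H}
    (hK : Cfsg.IsComponent K) : Cfsg.IsComponent (K.map H.subtype) :=
  ⟨hK.1.trans' hH, isQuasisimple_of_equiv (K.equivMapOfInjective _ H.subtype_injective) hK.2⟩

theorem component_of_subgroupOf {L H : Subgroup G} (hH : H.IsSubnormal) (hle : L ≤ H)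
    (hK : Cfsg.IsComponent (L.subgroupOf H)) : Cfsg.IsComponent L := by
  have := component_map_subtype hH hK
  rwa [map_subgroupOf_eq_of_le hle] at this

theorem component_map_equiv {G' : Type*} [Group G'] (e : G ≃* G') {L : Subgroup G}
    (hL : Cfsg.IsComponent L) : Cfsg.IsComponent (L.map e.toMonoidHom) :=
  ⟨hL.1.map e.surjective,
    isQuasisimple_of_equiv (L.equivMapOfInjective e.toMonoidHom e.injective) hL.2⟩

theorem component_conj (g : G) {L : Subgroup G}
    (hL : Cfsg.IsComponent L) : Cfsg.IsComponent (L.map (MulAut.conj g).toMonoidHom) :=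
  component_map_equiv (MulAut.conj g) hL

theorem component_comap_equiv {G' : Type*} [Group G'] (e : G ≃* G') {L : Subgroup G'}
    (hL : Cfsg.IsComponent L) : Cfsg.IsComponent (L.comap e.toMonoidHom) := by
  rw [comap_equiv_eq_map_symm']
  exact component_map_equiv e.symm hL

/-- A component and a subnormal subgroup: containment or elementwise commutation. -/
theorem component_le_or_commutator_eq_bot [Finite G] {L H : Subgroup G}
    (hL : Cfsg.IsComponent L) (hH : H.IsSubnormal) : L ≤ H ∨ ⁅L, H⁆ = ⊥ := by
  obtain ⟨n, hn⟩ : ∃ n, Nat.card G = n := ⟨_, rfl⟩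
  induction n using Nat.strong_induction_on generalizing G with
  | _ n ih =>
    subst hn
    rcases hH.lt_normal with rfl | ⟨M, hMn, hHM, hMlt⟩
    · exact Or.inl le_top
    haveI := hMn
    have hcard : ∀ K : Subgroup G, K < ⊤ → Nat.card K < Nat.card G := fun K hK =>
      lt_of_le_of_ne (card_le_card_group K) fun h => hK.ne (eq_top_of_card_eq K h)
    by_cases hLM : L ≤ M
    · rcases ih _ (hcard M hMlt) (component_subgroupOf hL hLM) (hH.subgroupOf (K := M)) rfl
        with h | h
      · left
        have := map_mono (f := M.subtype) h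
        rwa [map_subgroupOf_eq_of_le hLM, map_subgroupOf_eq_of_le hHM] at this
      · right
        have := congrArg (map M.subtype) h
        rwa [map_commutator, map_subgroupOf_eq_of_le hLM, map_subgroupOf_eq_of_le hHM,
          Subgroup.map_bot] at this
    right
    rcases hL.1.lt_normal with rfl | ⟨N, hNn, hLN, hNlt⟩
    · have hq : Cfsg.IsQuasisimple G := isQuasisimple_of_equiv topEquiv hL.2
      rcases quasisimple_normal hq hMn with h | h
      · exact absurd (h ▸ le_rfl) hLM
      · rw [commutator_top_left_eq_bot_iff_le_center]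
        exact hHM.trans h
    haveI := hNn
    have hML : ⁅M, L⁆ ≤ M ⊓ N :=
      (commutator_mono le_rfl hLN).trans (commutator_le_inf M N)
    have hsn : (M ⊓ N).IsSubnormal := hMn.isSubnormal.inf hNn.isSubnormal
    rcases ih _ (hcard N hNlt) (component_subgroupOf hL hLN) (hsn.subgroupOf (K := N)) rfl
      with h | h
    · exfalso
      apply hLM
      have := map_mono (f := N.subtype) h
      rw [map_subgroupOf_eq_of_le hLN, map_subgroupOf_eq_of_le inf_le_right] at this
      exact this.trans inf_le_left
    · have h' : ⁅L, M ⊓ N⁆ = ⊥ := by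
        have := congrArg (map N.subtype) h
        rwa [map_commutator, map_subgroupOf_eq_of_le hLN, map_subgroupOf_eq_of_le inf_le_right,
          Subgroup.map_bot] at this
      have h3 : ⁅⁅M, L⁆, L⁆ = ⊥ := by
        rw [eq_bot_iff, ← h', commutator_comm L (M ⊓ N)]
        exact commutator_mono hML le_rfl
      have h4 := commutator_eq_bot_of_perfect (component_perfect hL) h3
      rw [eq_bot_iff, ← h4, commutator_comm L H]
      exact commutator_mono hHM le_rfl

/-- Two components are equal or commute. -/
theorem component_eq_or_commute [Finite G] {K L : Subgroup G} (hK : Cfsg.IsComponent K)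
    (hL : Cfsg.IsComponent L) : K = L ∨ ⁅K, L⁆ = ⊥ := by
  rcases component_le_or_commutator_eq_bot hK hL.1 with h | h
  · rcases component_le_or_commutator_eq_bot hL hK.1 with h' | h'
    · exact Or.inl (le_antisymm h h')
    · right
      rwa [commutator_comm]
  · exact Or.inr h

theorem component_le_eq [Finite G] {K L : Subgroup G} (hK : Cfsg.IsComponent K)
    (hL : Cfsg.IsComponent L) (h : K ≤ L) : K = L := by
  refine (component_eq_or_commute hK hL).resolve_right fun h' => component_not_comm hK ?_
  rw [eq_bot_iff, ← h']
  exact commutator_mono le_rfl h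

/-- A component commutes with every solvable subgroup that it normalizes. -/
theorem component_commutator_solvable [Finite G] {L H : Subgroup G} (hL : Cfsg.IsComponent L)
    (hsolv : Group.IsSolvable H) (hinv : L ≤ normalizer (H : Set G)) : ⁅L, H⁆ = ⊥ := by
  have hHn : (H.subgroupOf (L ⊔ H)).Normal :=
    normal_subgroupOf_of_le_normalizer (sup_le hinv le_normalizer)
  rcases component_le_or_commutator_eq_bot (component_subgroupOf hL (le_sup_left (b := H)))
    hHn.isSubnormal with h | h
  · exfalso
    have := map_mono (f := (L ⊔ H).subtype) h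
    rw [map_subgroupOf_eq_of_le le_sup_left, map_subgroupOf_eq_of_le le_sup_right] at this
    exact component_not_le_solvable hL hsolv this
  · have := congrArg (map (L ⊔ H).subtype) h
    rwa [map_commutator, map_subgroupOf_eq_of_le le_sup_left, map_subgroupOf_eq_of_le le_sup_right,
      Subgroup.map_bot] at this

theorem component_commutator_normal_solvable [Finite G] {L H : Subgroup G} [hn : H.Normal]
    (hL : Cfsg.IsComponent L) (hsolv : Group.IsSolvable H) : ⁅L, H⁆ = ⊥ :=
  component_commutator_solvable hL hsolv (by rw [normalizer_eq_top]; exact le_top)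

/-! ### The layer -/

theorem component_le_layer {L : Subgroup G} (hL : Cfsg.IsComponent L) : L ≤ Cfsg.layer G :=
  le_sSup hL

theorem layer_le {H : Subgroup G} (h : ∀ L : Subgroup G, Cfsg.IsComponent L → L ≤ H) :
    Cfsg.layer G ≤ H :=
  sSup_le h

theorem map_layer_le {G' : Type*} [Group G'] (e : G ≃* G') :
    (Cfsg.layer G).map e.toMonoidHom ≤ Cfsg.layer G' :=
  map_le_iff_le_comap.mpr (layer_le fun _ hL =>
    map_le_iff_le_comap.mp (component_le_layer (component_map_equiv e hL)))

theorem map_layer {G' : Type*} [Group G'] (e : G ≃* G') :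
    (Cfsg.layer G).map e.toMonoidHom = Cfsg.layer G' := by
  refine le_antisymm (map_layer_le e) ?_
  rw [map_equiv_eq_comap_symm', ← map_le_iff_le_comap]
  exact map_layer_le e.symm

instance layer_characteristic : (Cfsg.layer G).Characteristic :=
  characteristic_iff_map_eq.mpr fun e => map_layer e

theorem layer_subgroupOf_le {H : Subgroup G} (hH : H.IsSubnormal) :
    (Cfsg.layer H).map H.subtype ≤ Cfsg.layer G :=
  map_le_iff_le_comap.mpr (layer_le fun _ hK =>
    map_le_iff_le_comap.mp (component_le_layer (component_map_subtype hH hK)))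

theorem layer_perfect : ⁅Cfsg.layer G, Cfsg.layer G⁆ = Cfsg.layer G := by
  refine le_antisymm (commutator_le_self _) (layer_le fun L hL => ?_)
  rw [← component_perfect hL]
  exact commutator_mono (component_le_layer hL) (component_le_layer hL)

theorem layer_isPerfect : Group.IsPerfect (Cfsg.layer G) :=
  Subgroup.isPerfect_iff.mpr layer_perfect

theorem layer_le_normalizer_component [Finite G] {L : Subgroup G} (hL : Cfsg.IsComponent L) :
    Cfsg.layer G ≤ normalizer (L : Set G) := by
  refine layer_le fun K hK => ?_
  rcases component_eq_or_commute hK hL with rfl | h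
  · exact le_normalizer
  · exact (commutator_eq_bot_iff_le_centralizer.mp h).trans (centralizer_le_normalizer _)

theorem component_normal_in_layer [Finite G] {L : Subgroup G} (hL : Cfsg.IsComponent L) :
    (L.subgroupOf (Cfsg.layer G)).Normal :=
  normal_subgroupOf_of_le_normalizer (layer_le_normalizer_component hL)

theorem layer_commutator_normal_solvable [Finite G] {H : Subgroup G} [H.Normal]
    (hsolv : Group.IsSolvable H) : ⁅Cfsg.layer G, H⁆ = ⊥ := by
  rw [commutator_eq_bot_iff_le_centralizer]
  exact layer_le fun L hL =>
    commutator_eq_bot_iff_le_centralizer.mp (component_commutator_normal_solvable hL hsolv)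

/-! ### The solvable radical -/

theorem isSolvable_sup {A B : Subgroup G} [hA : A.Normal] (hA' : Group.IsSolvable A)
    (hB' : Group.IsSolvable B) : Group.IsSolvable (B ⊔ A : Subgroup G) := by
  haveI := hA'
  haveI := hB'
  haveI : Group.IsSolvable ↥((A.subgroupOf (B ⊔ A))) :=
    Group.isSolvable_of_isSolvable_injective
      (f := (subgroupOfEquivOfLe (le_sup_right : A ≤ B ⊔ A)).toMonoidHom)
      (subgroupOfEquivOfLe (le_sup_right : A ≤ B ⊔ A)).injective
  haveI : Group.IsSolvable ((B ⊔ A : Subgroup G) ⧸ A.subgroupOf (B ⊔ A)) :=
    Group.isSolvable_of_surjective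
      (f := (QuotientGroup.quotientInfEquivProdNormalQuotient B A).toMonoidHom)
      (QuotientGroup.quotientInfEquivProdNormalQuotient B A).surjective
  exact (Group.isSolvable_iff_subgroup_quotient (A.subgroupOf (B ⊔ A))).mpr ⟨‹_›, ‹_›⟩

/-- The solvable radical: the join of the normal solvable subgroups. -/
def solvRad (G : Type*) [Group G] : Subgroup G :=
  sSup {N : Subgroup G | N.Normal ∧ Group.IsSolvable N}

instance solvRad_normal : (solvRad G).Normal :=
  Subgroup.sSup_normal _ (fun _ h => h.1)

theorem le_solvRad {N : Subgroup G} (hn : N.Normal) (hs : Group.IsSolvable N) :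
    N ≤ solvRad G :=
  le_sSup ⟨hn, hs⟩

theorem solvRad_isSolvable [Finite G] : Group.IsSolvable (solvRad G) := by
  obtain ⟨M, -, hM⟩ := Finite.exists_le_maximal
    (p := fun N : Subgroup G => N.Normal ∧ Group.IsSolvable N) (a := ⊥)
    ⟨inferInstance, inferInstance⟩
  haveI := hM.1.1
  have hall : solvRad G = M := by
    refine le_antisymm (sSup_le ?_) (le_solvRad hM.1.1 hM.1.2)
    intro N hN
    haveI := hN.1
    exact le_sup_left.trans (hM.2 ⟨inferInstance, isSolvable_sup hM.1.2 hN.2⟩ le_sup_right)
  rw [hall]
  exact hM.1.2

theorem map_solvRad_le {G' : Type*} [Group G'] (e : G ≃* G') :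
    (solvRad G).map e.toMonoidHom ≤ solvRad G' := by
  refine map_le_iff_le_comap.mpr (sSup_le fun N hN => map_le_iff_le_comap.mp ?_)
  haveI := hN.2
  exact le_solvRad (hN.1.map _ e.surjective)
    (Group.isSolvable_of_surjective (f := (N.equivMapOfInjective e.toMonoidHom e.injective).toMonoidHom)
      (N.equivMapOfInjective e.toMonoidHom e.injective).surjective)

instance solvRad_characteristic : (solvRad G).Characteristic :=
  characteristic_iff_map_le.mpr fun e => map_solvRad_le e

theorem isSolvable_map_subtype {H : Subgroup G} {K : Subgroup H} (h : Group.IsSolvable K) :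
    Group.IsSolvable (K.map H.subtype) := by
  haveI := h
  exact Group.isSolvable_of_surjective
    (f := (K.equivMapOfInjective H.subtype H.subtype_injective).toMonoidHom)
    (K.equivMapOfInjective H.subtype H.subtype_injective).surjective

theorem isSolvable_subgroupOf {H K : Subgroup G} (h : Group.IsSolvable H) :
    Group.IsSolvable (H.subgroupOf K) := by
  haveI := h
  exact Group.isSolvable_of_isSolvable_injective
    (f := ((K.subtype.comp (H.subgroupOf K).subtype).codRestrict H fun x => x.2))
    (fun a b hab => Subtype.ext (Subtype.ext (congrArg (Subtype.val) hab :)))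

/-- A subnormal solvable subgroup lies in the solvable radical. -/
theorem subnormal_solvable_le_solvRad [Finite G] {H : Subgroup G} (hH : H.IsSubnormal)
    (hs : Group.IsSolvable H) : H ≤ solvRad G := by
  obtain ⟨n, hn⟩ : ∃ n, Nat.card G = n := ⟨_, rfl⟩
  induction n using Nat.strong_induction_on generalizing G with
  | _ n ih =>
    subst hn
    rcases hH.lt_normal with rfl | ⟨M, hMn, hHM, hMlt⟩
    · exact le_solvRad inferInstance hs
    haveI := hMn
    have hlt : Nat.card M < Nat.card G :=
      lt_of_le_of_ne (card_le_card_group M) fun h => hMlt.ne (eq_top_of_card_eq M h)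
    have h1 := map_mono (f := M.subtype)
      (ih _ hlt (hH.subgroupOf (K := M)) (isSolvable_subgroupOf hs) rfl)
    rw [map_subgroupOf_eq_of_le hHM] at h1
    exact h1.trans (le_solvRad inferInstance (isSolvable_map_subtype solvRad_isSolvable))

/-! ### The Fitting subgroup and its centralizer -/

theorem le_fitting {N : Subgroup G} (hn : N.Normal) (hs : Group.IsNilpotent N) :
    N ≤ Cfsg.fittingSubgroup G :=
  le_sSup ⟨hn, hs⟩

instance fitting_normal : (Cfsg.fittingSubgroup G).Normal :=
  Subgroup.sSup_normal _ (fun _ h => h.1)

theorem fitting_le_solvRad : Cfsg.fittingSubgroup G ≤ solvRad G :=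
  sSup_le fun N hN => by
    haveI := hN.2
    exact le_solvRad hN.1 inferInstance

theorem fitting_isSolvable [Finite G] : Group.IsSolvable (Cfsg.fittingSubgroup G) := by
  haveI := solvRad_isSolvable (G := G)
  exact Group.isSolvable_of_isSolvable_injective (f := inclusion fitting_le_solvRad)
    (inclusion_injective fitting_le_solvRad)

theorem map_fitting_le {G' : Type*} [Group G'] (e : G ≃* G') :
    (Cfsg.fittingSubgroup G).map e.toMonoidHom ≤ Cfsg.fittingSubgroup G' := by
  refine map_le_iff_le_comap.mpr (sSup_le fun N hN => map_le_iff_le_comap.mp ?_)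
  exact le_fitting (hN.1.map _ e.surjective)
    ((Group.isNilpotent_congr (N.equivMapOfInjective e.toMonoidHom e.injective)).mp hN.2)

instance fitting_characteristic : (Cfsg.fittingSubgroup G).Characteristic :=
  characteristic_iff_map_le.mpr fun e => map_fitting_le e

theorem component_le_centralizer_fitting [Finite G] {L : Subgroup G} (hL : Cfsg.IsComponent L) :
    L ≤ centralizer (Cfsg.fittingSubgroup G : Set G) :=
  le_centralizer_of_commutator_eq_bot
    (component_commutator_normal_solvable hL fitting_isSolvable)

theorem layer_le_centralizer_fitting [Finite G] :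
    Cfsg.layer G ≤ centralizer (Cfsg.fittingSubgroup G : Set G) :=
  layer_le fun _ hL => component_le_centralizer_fitting hL

theorem normal_class_two_le_fitting {N : Subgroup G} (hn : N.Normal) (h : ⁅⁅N, N⁆, N⁆ = ⊥) :
    N ≤ Cfsg.fittingSubgroup G := by
  refine le_fitting hn (Subgroup.isNilpotent_of_lowerCentralSeries_eq_bot (n := 2) ?_)
  simpa using h

/-- A normal solvable subgroup centralizing the Fitting subgroup lies in it. -/
theorem normal_solvable_centralizing_fitting_le {R : Subgroup G} (hn : R.Normal)
    (hs : Group.IsSolvable R) (hc : R ≤ centralizer (Cfsg.fittingSubgroup G : Set G)) :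
    R ≤ Cfsg.fittingSubgroup G := by
  haveI := hn
  haveI := hs
  obtain ⟨n, hn'⟩ := hs.solvable
  suffices h : ∀ k, k ≤ n → ((derivedSeries R (n - k)).map R.subtype) ≤ Cfsg.fittingSubgroup G by
    have := h n le_rfl
    simpa [← MonoidHom.range_eq_map] using this
  intro k hk
  induction k with
  | zero => simp [hn']
  | succ k ihk =>
    haveI : (derivedSeries R (n - (k + 1))).Characteristic := inferInstance
    apply normal_class_two_le_fitting inferInstance
    rw [← map_commutator, ← derivedSeries_succ, show n - (k + 1) + 1 = n - k by omega,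
      commutator_eq_bot_iff_le_centralizer, Subgroup.le_centralizer_iff]
    refine ((map_subtype_le _).trans hc).trans (centralizer_le ?_)
    exact ihk (by omega)

theorem centralizer_fitting_solvRad_le [Finite G] :
    solvRad G ⊓ centralizer (Cfsg.fittingSubgroup G : Set G) ≤ Cfsg.fittingSubgroup G := by
  haveI := solvRad_isSolvable (G := G)
  refine normal_solvable_centralizing_fitting_le inferInstance ?_ inf_le_right
  exact Group.isSolvable_of_isSolvable_injective
    (f := inclusion (inf_le_left : solvRad G ⊓ _ ≤ solvRad G)) (inclusion_injective _)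

/-! ### The generalized Fitting subgroup -/

theorem layer_le_Fstar : Cfsg.layer G ≤ Cfsg.generalizedFittingSubgroup G := le_sup_left

theorem fitting_le_Fstar : Cfsg.fittingSubgroup G ≤ Cfsg.generalizedFittingSubgroup G :=
  le_sup_right

instance Fstar_normal : (Cfsg.generalizedFittingSubgroup G).Normal := Subgroup.sup_normal _ _

theorem map_Fstar_le {G' : Type*} [Group G'] (e : G ≃* G') :
    (Cfsg.generalizedFittingSubgroup G).map e.toMonoidHom ≤
      Cfsg.generalizedFittingSubgroup G' := by
  rw [Cfsg.generalizedFittingSubgroup, Subgroup.map_sup]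
  exact sup_le_sup (map_layer_le e) (map_fitting_le e)

instance Fstar_characteristic : (Cfsg.generalizedFittingSubgroup G).Characteristic :=
  characteristic_iff_map_le.mpr fun e => map_Fstar_le e

/-- `C_G(F*(G)) ≤ F*(G)`. -/
theorem centralizer_Fstar_le [Finite G] :
    centralizer (Cfsg.generalizedFittingSubgroup G : Set G) ≤
      Cfsg.generalizedFittingSubgroup G := by
  by_contra hcon
  obtain ⟨K, -, hK⟩ := Finite.exists_le_minimal
    (p := fun K : Subgroup G => K.IsSubnormal ∧
      K ≤ centralizer (Cfsg.generalizedFittingSubgroup G : Set G) ∧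
      ¬ K ≤ Cfsg.generalizedFittingSubgroup G)
    (a := centralizer (Cfsg.generalizedFittingSubgroup G : Set G))
    ⟨Normal.isSubnormal inferInstance, le_rfl, hcon⟩
  obtain ⟨⟨hKsn, hKc, hKF⟩, hmin⟩ := hK
  have hcases : ∀ N : Subgroup G, N ≤ K → N.IsSubnormal →
      N = K ∨ ⁅N, K⁆ = ⊥ := by
    intro N hNK hN
    by_cases hNF : N ≤ Cfsg.generalizedFittingSubgroup G
    · right
      rw [commutator_eq_bot_iff_le_centralizer, Subgroup.le_centralizer_iff]
      exact hKc.trans (centralizer_le hNF)
    · exact Or.inl (le_antisymm hNK (hmin ⟨hN, hNK.trans hKc, hNF⟩ hNK))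
  have hperf : ⁅K, K⁆ = K := by
    rcases hcases _ (commutator_le_self K) (isSubnormal_commutator hKsn) with h | h
    · exact h
    · exfalso
      apply hKF
      haveI : Group.IsNilpotent K :=
        Subgroup.isNilpotent_of_lowerCentralSeries_eq_bot (n := 2) (by simpa using h)
      refine le_trans (le_trans (le_inf (subnormal_solvable_le_solvRad hKsn inferInstance)
        (hKc.trans (centralizer_le fitting_le_Fstar))) centralizer_fitting_solvRad_le)
        fitting_le_Fstar
  have hKbot : K ≠ ⊥ := fun h => hKF (h ▸ bot_le)
  have hnorm : ∀ N : Subgroup K, N.Normal → N = ⊤ ∨ N ≤ center K := by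
    intro N hN
    rcases hcases _ (map_subtype_le N) (isSubnormal_map_subtype hKsn hN) with h | h
    · left
      apply Subgroup.map_injective K.subtype_injective
      rw [h, ← MonoidHom.range_eq_map, range_subtype]
    · right
      intro x hx
      rw [mem_center_iff]
      intro g
      have h1 := le_centralizer_of_commutator_eq_bot h (mem_map_of_mem K.subtype hx)
      exact Subtype.ext (mem_centralizer_iff.mp h1 g g.2)
  have hcomp : Cfsg.IsComponent K := by
    have hnt : Nontrivial K := K.nontrivial_iff_ne_bot.mpr hKbot
    have hp : Group.IsPerfect K := Subgroup.isPerfect_iff.mpr hperf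
    have hzt : center K ≠ ⊤ := by
      intro h
      haveI := hp
      haveI := hnt
      exact Group.IsPerfect.not_isMulCommutative K
        ((commutator_eq_bot_iff K).mp ((commutator_eq_bot_iff_center_eq_top K).mpr h))
    refine ⟨hKsn, hp, ?_⟩
    haveI : Nontrivial (K ⧸ center K) := QuotientGroup.nontrivial_iff.mpr hzt
    refine ⟨fun N hN => ?_⟩
    rcases hnorm _ (hN.comap (QuotientGroup.mk' (center K))) with h | h
    · exact Or.inr (comap_injective (QuotientGroup.mk'_surjective _) (h.trans (comap_top _).symm))
    · left
      rw [← map_comap_eq_self_of_surjective (QuotientGroup.mk'_surjective (center K)) N,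
        Subgroup.map_eq_bot_iff, QuotientGroup.ker_mk']
      exact h
  exact hKF ((component_le_layer hcomp).trans layer_le_Fstar)

end CfsgLib.Comp
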