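import Mathlib.GroupTheory.NoncommPiCoprod
import Cfsg.Agent.Comp.Basic

/-!
The Fitting subgroup of a finite group is nilpotent; every subnormal nilpotent subgroup lies in it.
-/

set_option autoImplicit false
set_option linter.style.haveILetI false

namespace CfsgLib.Comp

open Subgroup

variable {G : Type*} [Group G]

theorem pCore_isPGroup' [Finite G] (p : ℕ) : IsPGroup p (Cfsg.pCore p G) := by
  obtain ⟨M, -, hM⟩ := Finite.exists_le_maximal
    (p := fun N : Subgroup G => N.Normal ∧ IsPGroup p N) (a := ⊥)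
    ⟨inferInstance, IsPGroup.of_bot⟩
  haveI := hM.1.1
  have hall : Cfsg.pCore p G = M := by
    refine le_antisymm (sSup_le ?_) (le_sSup ⟨hM.1.1, hM.1.2⟩)
    intro N hN
    haveI := hN.1
    exact le_sup_left.trans (hM.2 ⟨inferInstance, IsPGroup.to_sup_of_normal_right hN.2 hM.1.2⟩
      le_sup_right)
  rw [hall]
  exact hM.1.2

theorem le_iSup_pCore_of_nilpotent [Finite G] {N : Subgroup G} (hn : N.Normal)
    (hs : Group.IsNilpotent N) :
    N ≤ ⨆ p : (Nat.card G).primeFactors, Cfsg.pCore (p : ℕ) G := by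
  haveI := hs
  haveI := hn
  have key : (⨆ p : (Nat.card G).primeFactors, Cfsg.pCore (p : ℕ) G).subgroupOf N = ⊤ := by
    apply eq_top_of_card_eq
    refine Nat.dvd_antisymm (card_subgroup_dvd_card _)
      ((Nat.dvd_iff_prime_pow_dvd_dvd _ _).mpr fun p k hp hpk => ?_)
    haveI : Fact p.Prime := ⟨hp⟩
    rcases Nat.eq_zero_or_pos k with rfl | hk
    · simp
    obtain ⟨P⟩ := (inferInstance : Nonempty (Sylow p N))
    haveI : (P : Subgroup N).Characteristic := Sylow.characteristic_of_normal P inferInstance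
    have hle : (P : Subgroup N) ≤
        (⨆ p : (Nat.card G).primeFactors, Cfsg.pCore (p : ℕ) G).subgroupOf N := by
      rw [subgroupOf, ← map_le_iff_le_comap]
      have hmem : p ∈ (Nat.card G).primeFactors :=
        Nat.mem_primeFactors.mpr ⟨hp, ((dvd_pow_self p hk.ne').trans hpk).trans
          (card_subgroup_dvd_card N), Nat.card_pos.ne'⟩
      refine le_trans ?_ (le_iSup (fun p : (Nat.card G).primeFactors => Cfsg.pCore (p : ℕ) G)
        ⟨p, hmem⟩)
      exact le_sSup ⟨inferInstance, P.isPGroup'.map N.subtype⟩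
    refine dvd_trans ?_ (card_dvd_of_le hle)
    rw [Sylow.card_eq_multiplicity]
    exact pow_dvd_pow p ((hp.pow_dvd_iff_le_factorization Nat.card_pos.ne').mp hpk)
  exact subgroupOf_eq_top.mp key

theorem fitting_eq_iSup_pCore [Finite G] :
    Cfsg.fittingSubgroup G = ⨆ p : (Nat.card G).primeFactors, Cfsg.pCore (p : ℕ) G := by
  refine le_antisymm (sSup_le fun N hN => le_iSup_pCore_of_nilpotent hN.1 hN.2)
    (iSup_le fun p => ?_)
  haveI : Fact (p : ℕ).Prime := ⟨Nat.prime_of_mem_primeFactors p.2⟩
  exact le_fitting inferInstance (pCore_isPGroup' (G := G) (p : ℕ)).isNilpotent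

theorem fitting_isNilpotent [Finite G] : Group.IsNilpotent (Cfsg.fittingSubgroup G) := by
  have hcomm : Pairwise fun i j : (Nat.card G).primeFactors =>
      ∀ x y : G, x ∈ Cfsg.pCore (i : ℕ) G → y ∈ Cfsg.pCore (j : ℕ) G → Commute x y := by
    intro i j hij x y hx hy
    haveI : Fact (i : ℕ).Prime := ⟨Nat.prime_of_mem_primeFactors i.2⟩
    haveI : Fact (j : ℕ).Prime := ⟨Nat.prime_of_mem_primeFactors j.2⟩
    exact Subgroup.commute_of_normal_of_disjoint _ _ inferInstance inferInstance
      (IsPGroup.disjoint_of_ne (i : ℕ) (j : ℕ) (fun h => hij (Subtype.ext h)) _ _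
        (pCore_isPGroup' (G := G) i) (pCore_isPGroup' (G := G) j)) x y hx hy
  haveI : ∀ p : (Nat.card G).primeFactors, Group.IsNilpotent (Cfsg.pCore (p : ℕ) G) := fun p => by
    haveI : Fact (p : ℕ).Prime := ⟨Nat.prime_of_mem_primeFactors p.2⟩
    exact (pCore_isPGroup' (G := G) (p : ℕ)).isNilpotent
  rw [fitting_eq_iSup_pCore, ← Subgroup.noncommPiCoprod_range (hcomm := hcomm)]
  exact Group.nilpotent_of_surjective _
    (Subgroup.noncommPiCoprod hcomm).rangeRestrict_surjective

theorem isNilpotent_of_le {H K : Subgroup G} (hle : H ≤ K) (h : Group.IsNilpotent K) :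
    Group.IsNilpotent H := by
  haveI := h
  exact (Group.isNilpotent_congr (subgroupOfEquivOfLe hle)).mp inferInstance

theorem pCore_le_fitting [Finite G] (p : ℕ) [Fact p.Prime] :
    Cfsg.pCore p G ≤ Cfsg.fittingSubgroup G :=
  le_fitting inferInstance (pCore_isPGroup' (G := G) p).isNilpotent

/-- A subnormal nilpotent subgroup lies in the Fitting subgroup. -/
theorem subnormal_nilpotent_le_fitting [Finite G] {H : Subgroup G} (hH : H.IsSubnormal)
    (hs : Group.IsNilpotent H) : H ≤ Cfsg.fittingSubgroup G := by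
  obtain ⟨n, hn⟩ : ∃ n, Nat.card G = n := ⟨_, rfl⟩
  induction n using Nat.strong_induction_on generalizing G with
  | _ n ih =>
    subst hn
    rcases hH.lt_normal with rfl | ⟨M, hMn, hHM, hMlt⟩
    · exact le_fitting inferInstance hs
    haveI := hMn
    have hlt : Nat.card M < Nat.card G :=
      lt_of_le_of_ne (card_le_card_group M) fun h => hMlt.ne (eq_top_of_card_eq M h)
    haveI := hs
    have hs' : Group.IsNilpotent (H.subgroupOf M) :=
      (Group.isNilpotent_congr (subgroupOfEquivOfLe hHM)).mpr hs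
    have h1 := map_mono (f := M.subtype) (ih _ hlt (hH.subgroupOf (K := M)) hs' rfl)
    rw [map_subgroupOf_eq_of_le hHM] at h1
    refine h1.trans (le_fitting inferInstance ?_)
    exact (Group.isNilpotent_congr
      ((Cfsg.fittingSubgroup M).equivMapOfInjective M.subtype M.subtype_injective)).mp
      fitting_isNilpotent

theorem fitting_subgroupOf_le [Finite G] {H : Subgroup G} (hH : H.IsSubnormal) :
    (Cfsg.fittingSubgroup H).map H.subtype ≤ Cfsg.fittingSubgroup G :=
  subnormal_nilpotent_le_fitting (isSubnormal_map_subtype hH inferInstance)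
    ((Group.isNilpotent_congr
      ((Cfsg.fittingSubgroup H).equivMapOfInjective H.subtype H.subtype_injective)).mp
      fitting_isNilpotent)

end CfsgLib.Comp
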