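import Mathlib.GroupTheory.Perm.Basic
import Mathlib.Algebra.Group.Subgroup.Pointwise
import Cfsg.Agent.Comp.Fitting

/-!
Further facts about the layer and the generalized Fitting subgroup.
-/

set_option autoImplicit false
set_option linter.style.haveILetI false

namespace CfsgLib.Comp

open Subgroup

variable {G : Type*} [Group G]

/-- The centre of a subgroup, viewed in the ambient group. -/
theorem map_center_eq (H : Subgroup G) :
    (center H).map H.subtype = H ⊓ centralizer (H : Set G) := by
  ext x
  simp only [mem_map, mem_center_iff, mem_inf, mem_centralizer_iff, coe_subtype]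
  constructor
  · rintro ⟨z, hz, rfl⟩
    exact ⟨z.2, fun h hh => congrArg Subtype.val (hz ⟨h, hh⟩)⟩
  · rintro ⟨hx, hc⟩
    exact ⟨⟨x, hx⟩, fun g => Subtype.ext (hc g g.2), rfl⟩

theorem map_center_le (H : Subgroup G) : (center H).map H.subtype ≤ H :=
  map_subtype_le _

theorem iSup_finset_centralizer {ι : Type*} [DecidableEq ι] (L : ι → Subgroup G) (s : Finset ι)
    (hc : ∀ i ∈ s, ∀ j ∈ s, i ≠ j → ⁅L i, L j⁆ = ⊥) :
    (⨆ i ∈ s, L i) ⊓ centralizer ((⨆ i ∈ s, L i : Subgroup G) : Set G) ≤
      ⨆ i ∈ s, (center (L i)).map (L i).subtype := by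
  induction s using Finset.induction_on with
  | empty => simp
  | @insert a s ha ih =>
    have hcs := ih fun i hi j hj => hc i (Finset.mem_insert_of_mem hi) j (Finset.mem_insert_of_mem hj)
    rw [Finset.iSup_insert, Finset.iSup_insert]
    generalize hK : (⨆ i ∈ s, L i) = K at hcs
    have hcomm : K ≤ centralizer (L a : Set G) := by
      rw [← hK]
      refine iSup₂_le fun i hi => ?_
      exact le_centralizer_of_commutator_eq_bot
        (hc i (Finset.mem_insert_of_mem hi) a (Finset.mem_insert_self _ _)
          (fun h => ha (h ▸ hi)))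
    intro z hz
    obtain ⟨hz1, hz2⟩ := mem_inf.mp hz
    rw [← SetLike.mem_coe, coe_mul_of_right_le_normalizer_left _ _
      (hcomm.trans (centralizer_le_normalizer _))] at hz1
    obtain ⟨l, hl, k, hk, rfl⟩ := hz1
    have hzc : ∀ x ∈ L a ⊔ K, x * (l * k) = (l * k) * x := mem_centralizer_iff.mp hz2
    have hlc : l ∈ L a ⊓ centralizer (L a : Set G) := by
      refine ⟨hl, mem_centralizer_iff.mpr fun x hx => ?_⟩
      have h1 := hzc x (le_sup_left (b := K) hx)
      have h2 := mem_centralizer_iff.mp (hcomm hk) x hx
      have h3 : x * l * k = l * x * k := by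
        rw [mul_assoc x l k, h1, mul_assoc, mul_assoc, h2]
      exact mul_right_cancel h3
    have hkc : k ∈ K ⊓ centralizer (K : Set G) := by
      refine ⟨hk, mem_centralizer_iff.mpr fun x hx => ?_⟩
      have h1 := hzc x (le_sup_right (a := L a) hx)
      have h2 : x * l = l * x := (mem_centralizer_iff.mp (hcomm hx) l hl).symm
      have h3 : l * (x * k) = l * (k * x) := by
        rw [← mul_assoc, ← h2, mul_assoc, h1, mul_assoc]
      exact mul_left_cancel h3
    rw [← map_center_eq] at hlc
    exact mul_mem_sup hlc (hcs hkc)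

/-- `Z(E(G))` is generated by the centres of the components. -/
theorem center_layer_eq [Finite G] :
    (center (Cfsg.layer G)).map (Cfsg.layer G).subtype =
      ⨆ L : {K : Subgroup G // Cfsg.IsComponent K},
        (center (L : Subgroup G)).map (L : Subgroup G).subtype := by
  classical
  haveI : Fintype {K : Subgroup G // Cfsg.IsComponent K} := Fintype.ofFinite _
  have hE : Cfsg.layer G =
      ⨆ L ∈ (Finset.univ : Finset {K : Subgroup G // Cfsg.IsComponent K}), (L : Subgroup G) := by
    refine le_antisymm (layer_le fun L hL => ?_) (iSup₂_le fun L _ => component_le_layer L.2)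
    exact le_iSup₂_of_le ⟨L, hL⟩ (Finset.mem_univ _) le_rfl
  refine le_antisymm ?_ (iSup_le fun L => ?_)
  · rw [map_center_eq, hE]
    refine (iSup_finset_centralizer
      (fun L : {K : Subgroup G // Cfsg.IsComponent K} => (L : Subgroup G)) Finset.univ
      fun i _ j _ hij => ?_).trans (iSup₂_le fun L _ => le_iSup_of_le L le_rfl)
    exact (component_eq_or_commute i.2 j.2).resolve_left fun h => hij (Subtype.ext h)
  · rw [map_center_eq, map_center_eq]
    refine le_inf (inf_le_left.trans (component_le_layer L.2)) ?_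
    rw [Subgroup.le_centralizer_iff]
    refine layer_le fun K hK => ?_
    rw [Subgroup.le_centralizer_iff]
    rcases component_eq_or_commute hK L.2 with rfl | h
    · exact inf_le_right
    · rw [commutator_comm] at h
      exact inf_le_left.trans (le_centralizer_of_commutator_eq_bot h)

instance layer_center_map_normal :
    ((center (Cfsg.layer G)).map (Cfsg.layer G).subtype).Normal := inferInstance

/-- `Z(E(G)) = F(G) ∩ E(G)`. -/
theorem center_layer_eq_fitting_inf [Finite G] :
    (center (Cfsg.layer G)).map (Cfsg.layer G).subtype = Cfsg.fittingSubgroup G ⊓ Cfsg.layer G := by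
  refine le_antisymm (le_inf (le_fitting inferInstance ?_) (map_subtype_le _)) ?_
  · exact (Group.isNilpotent_congr ((center (Cfsg.layer G)).equivMapOfInjective _
      (Cfsg.layer G).subtype_injective)).mp
      (Subgroup.isNilpotent_of_lowerCentralSeries_eq_bot (n := 1)
        (by simp [commutator_self_eq_bot_iff.mpr inferInstance]))
  · rw [map_center_eq]
    exact le_inf inf_le_right (inf_le_left.trans (Subgroup.le_centralizer_iff.mp
      layer_le_centralizer_fitting))

/-- A solvable subgroup of `C = C_G(F(G))` normalized by `C` lies in `Z(F(G))`. -/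
theorem solvable_in_centralizer_fitting [Finite G] (N : Subgroup G)
    (hN : N ≤ centralizer (Cfsg.fittingSubgroup G : Set G))
    (hnorm : centralizer (Cfsg.fittingSubgroup G : Set G) ≤ normalizer (N : Set G))
    (hsolv : Group.IsSolvable N) :
    N ≤ (center (Cfsg.fittingSubgroup G)).map (Cfsg.fittingSubgroup G).subtype := by
  rw [map_center_eq]
  refine le_inf ?_ hN
  have hn : (N.subgroupOf (centralizer (Cfsg.fittingSubgroup G : Set G))).Normal :=
    normal_subgroupOf_of_le_normalizer hnorm
  have hsn : N.IsSubnormal := IsSubnormal.trans hN hn.isSubnormal (Normal.isSubnormal inferInstance)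
  exact (le_inf (subnormal_solvable_le_solvRad hsn hsolv) hN).trans centralizer_fitting_solvRad_le

/-- Each subnormal subgroup containing no component commutes with the layer. -/
theorem component_le_centralizer_of_not_le [Finite G] {L H : Subgroup G}
    (hL : Cfsg.IsComponent L) (hH : H.IsSubnormal) (h : ¬ L ≤ H) :
    L ≤ centralizer (H : Set G) :=
  le_centralizer_of_commutator_eq_bot ((component_le_or_commutator_eq_bot hL hH).resolve_left h)

/-- `E(X) = C_{E(X)}(U) [E(X), U]`. -/
theorem layer_eq_centralizer_sup_commutator [Finite G] (U : Subgroup G) :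
    Cfsg.layer G = (Cfsg.layer G ⊓ centralizer (U : Set G)) ⊔ ⁅Cfsg.layer G, U⁆ ∧
      ⁅Cfsg.layer G, U⁆ ≤ Cfsg.layer G := by
  have h2 : ⁅Cfsg.layer G, U⁆ ≤ Cfsg.layer G := commutator_le_left _ _
  refine ⟨le_antisymm (layer_le fun L hL => ?_) (sup_le inf_le_left h2), h2⟩
  have hsn : (⁅Cfsg.layer G, U⁆).IsSubnormal :=
    IsSubnormal.trans h2 (normal_subgroupOf_of_le_normalizer
      (normalizer_commutator_ge_left _ _)).isSubnormal
      (Normal.isSubnormal inferInstance)
  rcases component_le_or_commutator_eq_bot hL hsn with h | h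
  · exact h.trans le_sup_right
  · refine le_trans (le_inf (component_le_layer hL) ?_) le_sup_left
    apply le_centralizer_of_commutator_eq_bot
    rw [commutator_comm]
    apply commutator_eq_bot_of_perfect (component_perfect hL)
    rw [eq_bot_iff, ← h, commutator_comm U L, commutator_comm L ⁅Cfsg.layer G, U⁆]
    exact commutator_mono (commutator_mono (component_le_layer hL) le_rfl) le_rfl

/-- A normal subgroup containing `F(G)` and its own centralizer contains `F*(G)`. -/
theorem Fstar_le_of_self_centralizing [Finite G] (Y : Subgroup G) [hY : Y.Normal]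
    (hF : Cfsg.fittingSubgroup G ≤ Y) (hC : centralizer (Y : Set G) ≤ Y) :
    Cfsg.generalizedFittingSubgroup G ≤ Y := by
  refine sup_le (layer_le fun L hL => ?_) hF
  by_cases h : L ≤ Y
  · exact h
  · exact (component_le_centralizer_of_not_le hL hY.isSubnormal h).trans hC

theorem centralizer_fitting_le_iff [Finite G] :
    centralizer (Cfsg.fittingSubgroup G : Set G) ≤ Cfsg.fittingSubgroup G ↔
      Cfsg.layer G = ⊥ := by
  constructor
  · intro h
    refine eq_bot_iff.mpr (layer_le fun L hL => ?_)
    exact absurd ((component_le_centralizer_fitting hL).trans h)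
      (component_not_le_solvable hL fitting_isSolvable)
  · intro h
    have := centralizer_Fstar_le (G := G)
    rwa [Cfsg.generalizedFittingSubgroup, h, bot_sup_eq] at this

theorem le_derivedSeries_of_perfect {H A : Subgroup G} (hA : ⁅A, A⁆ = A) (hle : A ≤ H) (n : ℕ) :
    A ≤ (derivedSeries H n).map H.subtype := by
  induction n with
  | zero => simpa [← MonoidHom.range_eq_map] using hle
  | succ n ih =>
    rw [derivedSeries_succ, map_commutator, ← hA]
    exact commutator_mono ih ih

/-- The last term of the derived series of `F*(G)` is the layer. -/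
theorem iInf_derivedSeries_Fstar [Finite G] :
    (⨅ n : ℕ, (derivedSeries (Cfsg.generalizedFittingSubgroup G) n).map
      (Cfsg.generalizedFittingSubgroup G).subtype) = Cfsg.layer G := by
  refine le_antisymm ?_ (le_iInf fun n =>
    le_derivedSeries_of_perfect layer_perfect layer_le_Fstar n)
  haveI := fitting_isSolvable (G := G)
  obtain ⟨n, hn⟩ := ‹Group.IsSolvable (Cfsg.fittingSubgroup G)›.solvable
  refine iInf_le_of_le n ?_
  have key : ∀ k, (derivedSeries (Cfsg.generalizedFittingSubgroup G) k).map
      (Cfsg.generalizedFittingSubgroup G).subtype ≤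
      Cfsg.layer G ⊔ (derivedSeries (Cfsg.fittingSubgroup G) k).map
        (Cfsg.fittingSubgroup G).subtype := by
    intro k
    induction k with
    | zero =>
      refine (map_subtype_le _).trans (le_of_eq ?_)
      simp [← MonoidHom.range_eq_map, Cfsg.generalizedFittingSubgroup]
    | succ k ih =>
      rw [derivedSeries_succ, map_commutator, derivedSeries_succ, map_commutator]
      refine (commutator_mono ih ih).trans ?_
      generalize (derivedSeries (Cfsg.fittingSubgroup G) k).map
        (Cfsg.fittingSubgroup G).subtype = D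
      rw [← QuotientGroup.ker_mk' (Cfsg.layer G), ← sup_comm ⁅D, D⁆, ← comap_map_eq,
        ← map_le_iff_le_comap, map_commutator, Subgroup.map_sup,
        show (QuotientGroup.mk' (Cfsg.layer G)).ker.map (QuotientGroup.mk' (Cfsg.layer G)) = ⊥ from
          (Subgroup.map_eq_bot_iff _).mpr le_rfl, bot_sup_eq, map_commutator]
  simpa [hn] using key n

theorem isNilpotent_subgroupOf {H K : Subgroup G} (h : Group.IsNilpotent H) :
    Group.IsNilpotent (H.subgroupOf K) := by
  haveI := isNilpotent_of_le (inf_le_left : H ⊓ K ≤ H) h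
  refine (Group.isNilpotent_congr ?_).mpr ‹Group.IsNilpotent ↥(H ⊓ K)›
  exact ((H.subgroupOf K).equivMapOfInjective K.subtype K.subtype_injective).trans
    (MulEquiv.subgroupCongr (map_subgroupOf_inf H K))

/-- `F*(A) ∩ B = F*(B)` for normal `B`. -/
theorem Fstar_inf_normal [Finite G] (B : Subgroup G) [hB : B.Normal] :
    Cfsg.generalizedFittingSubgroup G ⊓ B =
      (Cfsg.generalizedFittingSubgroup B).map B.subtype := by
  refine le_antisymm ?_ (le_inf ?_ (map_subtype_le _))
  swap
  · rw [Cfsg.generalizedFittingSubgroup, Subgroup.map_sup]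
    exact sup_le_sup (layer_subgroupOf_le hB.isSubnormal) (fitting_subgroupOf_le hB.isSubnormal)
  intro x hx
  obtain ⟨hxF, hxB⟩ := mem_inf.mp hx
  -- components inside `B`, and the others
  obtain ⟨E1, hE1⟩ : ∃ E1, E1 = sSup {L : Subgroup G | Cfsg.IsComponent L ∧ L ≤ B} := ⟨_, rfl⟩
  obtain ⟨E2, hE2⟩ : ∃ E2, E2 = sSup {L : Subgroup G | Cfsg.IsComponent L ∧ ¬ L ≤ B} := ⟨_, rfl⟩
  have hE : Cfsg.layer G ≤ E1 ⊔ E2 := layer_le fun L hL => by
    by_cases h : L ≤ B
    · exact le_trans (hE1 ▸ le_sSup ⟨hL, h⟩) le_sup_left
    · exact le_trans (hE2 ▸ le_sSup ⟨hL, h⟩) le_sup_right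
  have hE1B : E1 ≤ B := hE1 ▸ sSup_le fun L hL => hL.2
  have hE1map : E1 ≤ (Cfsg.generalizedFittingSubgroup B).map B.subtype := by
    rw [hE1]
    refine sSup_le fun L hL => ?_
    have := map_mono (f := B.subtype)
      ((component_le_layer (component_subgroupOf hL.1 hL.2)).trans layer_le_Fstar)
    rwa [map_subgroupOf_eq_of_le hL.2] at this
  have hE2C : E2 ≤ centralizer (B : Set G) := hE2 ▸ sSup_le fun L hL =>
    component_le_centralizer_of_not_le hL.1 hB.isSubnormal hL.2
  have hE2F : E2 ≤ centralizer (Cfsg.fittingSubgroup G : Set G) := hE2 ▸ sSup_le fun L hL =>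
    component_le_centralizer_fitting hL.1
  have hE2E : E2 ≤ Cfsg.layer G := hE2 ▸ sSup_le fun L hL => component_le_layer hL.1
  have hE1n : E1.Normal := by
    rw [← normalizer_eq_top_iff, eq_top_iff]
    intro g _
    rw [mem_normalizer_iff]
    have hle : ∀ g : G, E1.map (MulAut.conj g).toMonoidHom ≤ E1 := fun g => by
      rw [map_le_iff_le_comap, hE1]
      refine sSup_le fun L hL => map_le_iff_le_comap.mp (le_sSup ⟨component_conj g hL.1, ?_⟩)
      rw [map_le_iff_le_comap]
      exact fun y hy => hB.conj_mem y (hL.2 hy) g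
    refine fun y => ⟨fun hy => hle g ⟨y, hy, rfl⟩, fun hy => ?_⟩
    have := hle g⁻¹ ⟨_, hy, rfl⟩
    simpa [mul_assoc] using this
  have hxE : x ∈ E1 ⊔ (E2 ⊔ Cfsg.fittingSubgroup G) := by
    rw [← sup_assoc]
    exact sup_le_sup_right hE _ hxF
  rw [← SetLike.mem_coe, Subgroup.normal_mul] at hxE
  obtain ⟨a, ha, y, hy, rfl⟩ := hxE
  refine mul_mem (hE1map ha) ?_
  have hyB : y ∈ B := (B.mul_mem_cancel_left (hE1B ha)).mp hxB
  rw [SetLike.mem_coe, ← SetLike.mem_coe, Subgroup.mul_normal] at hy
  obtain ⟨e, he, f, hf, rfl⟩ := hy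
  have hez : e ∈ Cfsg.fittingSubgroup G := by
    have : e ∈ (center (Cfsg.layer G)).map (Cfsg.layer G).subtype := by
      rw [map_center_eq]
      refine ⟨hE2E he, ?_⟩
      have hE1C : E1 ≤ centralizer ({e} : Set G) := fun u hu => by
        rw [mem_centralizer_singleton_iff]
        exact mem_centralizer_iff.mp (hE2C he) u (hE1B hu)
      have hE2C' : E2 ≤ centralizer ({e} : Set G) := fun u hu => by
        rw [mem_centralizer_singleton_iff]
        have h1 : u * (e * f) = (e * f) * u := (mem_centralizer_iff.mp (hE2C hu) _ hyB).symm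
        have h2 : f * u = u * f := mem_centralizer_iff.mp (hE2F hu) f hf
        have h3 : u * e * f = e * u * f := by rw [mul_assoc, h1, mul_assoc, h2, mul_assoc]
        exact mul_right_cancel h3
      refine mem_centralizer_iff.mpr fun u hu => ?_
      exact mem_centralizer_singleton_iff.mp ((hE.trans (sup_le hE1C hE2C')) hu)
    rw [center_layer_eq_fitting_inf] at this
    exact this.1
  have hmem : (⟨e * f, hyB⟩ : B) ∈ Cfsg.fittingSubgroup B := by
    have h1 : (Cfsg.fittingSubgroup G).subgroupOf B ≤ Cfsg.fittingSubgroup B := by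
      refine le_fitting inferInstance ?_
      exact isNilpotent_subgroupOf fitting_isNilpotent
    exact h1 (mul_mem hez hf)
  exact ⟨_, fitting_le_Fstar hmem, rfl⟩

end CfsgLib.Comp
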