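import Cfsg.Agent.Comp.Fitting
import Cfsg.Agent.Solvable.Fitting
import Cfsg.Agent.Comp.Layer

/-!
`p`-components: existence, uniqueness and normality in the `p`-layer.
-/

set_option autoImplicit false
set_option linter.unusedSectionVars false
set_option linter.deprecated false
set_option linter.style.haveILetI false

namespace CfsgLib.PComp

open Subgroup
open scoped commutatorElement

variable {G : Type*} [Group G]

theorem conj_pPrimeCore_map_le [Finite G] {p : ℕ} {H : Subgroup G} {g : G}
    (hg : g ∈ normalizer (H : Set G)) :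
    ((Cfsg.pPrimeCore p H).map H.subtype).map (MulAut.conj g).toMonoidHom ≤
      (Cfsg.pPrimeCore p H).map H.subtype := by
  set O := (Cfsg.pPrimeCore p H).map H.subtype
  have hH : H.map (MulAut.conj g).toMonoidHom = H := mem_normalizer_iff_map_conj_eq.1 hg
  have hOH : O.map (MulAut.conj g).toMonoidHom ≤ H :=
    (map_mono (map_subtype_le _)).trans hH.le
  haveI : ((O.map (MulAut.conj g).toMonoidHom).subgroupOf H).Normal := by
    refine (normal_subgroupOf_iff_le_normalizer hOH).2 ?_
    have h1 := map_mono (f := (MulAut.conj g).toMonoidHom)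
      (Comp.normal_map_subtype_iff.1 (Solvable.pPrimeCore_normal (G := H) p))
    rw [hH] at h1
    exact h1.trans (le_normalizer_map _)
  rw [← map_subgroupOf_eq_of_le hOH]
  refine map_mono (Solvable.le_pPrimeCore p inferInstance ?_)
  rw [Nat.card_congr (subgroupOfEquivOfLe hOH).toEquiv,
    card_map_of_injective (f := (MulAut.conj g).toMonoidHom) (MulAut.conj g).injective,
    card_map_of_injective H.subtype_injective]
  exact Solvable.coprime_card_pPrimeCore p

/-- A subnormal `p'`-subgroup lies in `O_{p'}(G)`. -/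
theorem subnormal_le_pPrimeCore [Finite G] {p : ℕ} {H : Subgroup G} (hH : H.IsSubnormal)
    (hc : (Nat.card H).Coprime p) : H ≤ Cfsg.pPrimeCore p G := by
  suffices ∀ K : Subgroup G, K.IsSubnormal → (Cfsg.pPrimeCore p K).map K.subtype ≤ Cfsg.pPrimeCore p G by
    refine le_trans ?_ (this H hH)
    intro x hx
    exact ⟨⟨x, hx⟩, Solvable.le_pPrimeCore p (N := (⊤ : Subgroup H)) inferInstance
      (by rwa [Subgroup.card_top]) (mem_top _), rfl⟩
  intro K hK
  induction hK with
  | top =>
    refine Solvable.le_pPrimeCore p ?_ ?_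
    · exact (Solvable.pPrimeCore_normal (G := (⊤ : Subgroup G)) p).map _ fun x => ⟨⟨x, mem_top x⟩, rfl⟩
    · rw [card_map_of_injective (subtype_injective _)]
      exact Solvable.coprime_card_pPrimeCore p
  | step A B hle hB hn ih =>
    refine le_trans ?_ ih
    set O := (Cfsg.pPrimeCore p A).map A.subtype
    have hOB : O ≤ B := (map_subtype_le _).trans hle
    haveI : (O.subgroupOf B).Normal := by
      refine (normal_subgroupOf_iff_le_normalizer hOB).2 fun g hg => ?_
      have hgA := (normal_subgroupOf_iff_le_normalizer hle).1 hn hg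
      refine mem_normalizer_iff.2 fun x => ⟨fun hx => conj_pPrimeCore_map_le hgA ⟨x, hx, rfl⟩, fun hx => ?_⟩
      have key : g⁻¹ * (g * x * g⁻¹) * g⁻¹⁻¹ ∈ O :=
        conj_pPrimeCore_map_le (inv_mem hgA) ⟨_, hx, rfl⟩
      rwa [show g⁻¹ * (g * x * g⁻¹) * g⁻¹⁻¹ = x by group] at key
    rw [← map_subgroupOf_eq_of_le hOB]
    refine map_mono (Solvable.le_pPrimeCore p inferInstance ?_)
    rw [Nat.card_congr (subgroupOfEquivOfLe hOB).toEquiv, card_map_of_injective A.subtype_injective]
    exact Solvable.coprime_card_pPrimeCore p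

variable (p : ℕ)

/-- The subgroup generated by the `p`-elements of `H`. -/
def pGen (H : Subgroup G) : Subgroup G :=
  Subgroup.closure {x : G | x ∈ H ∧ ∃ k, x ^ p ^ k = 1}

theorem pGen_le (H : Subgroup G) : pGen p H ≤ H := (closure_le H).2 fun _ hx => hx.1

theorem pGen_mono {H K : Subgroup G} (h : H ≤ K) : pGen p H ≤ pGen p K :=
  closure_mono fun _ hx => ⟨h hx.1, hx.2⟩

theorem mem_pGen {H : Subgroup G} {x : G} (hx : x ∈ H) {k : ℕ} (hk : x ^ p ^ k = 1) :
    x ∈ pGen p H := subset_closure ⟨hx, k, hk⟩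

theorem normalizer_le_normalizer_pGen (H : Subgroup G) :
    normalizer (H : Set G) ≤ normalizer (pGen p H : Set G) := by
  intro g hg
  have key : ∀ g ∈ normalizer (H : Set G), ∀ x ∈ pGen p H, g * x * g⁻¹ ∈ pGen p H := by
    intro g hg x hx
    have h1 : (pGen p H).map (MulAut.conj g).toMonoidHom ≤ pGen p H := by
      rw [pGen, MonoidHom.map_closure]
      refine closure_mono ?_
      rintro _ ⟨y, ⟨hy, k, hk⟩, rfl⟩
      refine ⟨(mem_normalizer_iff.1 hg y).1 hy, k, ?_⟩
      show ((MulAut.conj g) y) ^ p ^ k = 1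
      rw [← map_pow, hk, map_one]
    exact h1 ⟨x, hx, rfl⟩
  refine mem_normalizer_iff.2 fun x => ⟨key g hg x, fun hx => ?_⟩
  have := key g⁻¹ (inv_mem hg) _ hx
  simpa [mul_assoc] using this

theorem isSubnormal_pGen {H : Subgroup G} (hH : H.IsSubnormal) : (pGen p H).IsSubnormal :=
  IsSubnormal.step _ H (pGen_le p H) hH
    ((normal_subgroupOf_iff_le_normalizer (pGen_le p H)).2
      (le_normalizer.trans (normalizer_le_normalizer_pGen p H)))

variable [Finite G] {p} [Fact p.Prime]

/-- A subnormal subgroup of index prime to `p` contains every `p`-element. -/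
theorem mem_of_subnormal_index {H : Subgroup G} (hH : H.IsSubnormal) (hi : H.index.Coprime p)
    {x : G} {k : ℕ} (hk : x ^ p ^ k = 1) : x ∈ H := by
  induction hH with
  | top => exact mem_top x
  | step A B hle hB hn ih =>
    rw [← relIndex_mul_index hle] at hi
    have hxB : x ∈ B := ih (Nat.Coprime.coprime_dvd_left (dvd_mul_left _ _) hi)
    haveI := hn
    have h1 : orderOf (QuotientGroup.mk' (A.subgroupOf B) (⟨x, hxB⟩ : B)) ∣ A.relIndex B :=
      orderOf_dvd_natCard _
    have h2 : orderOf (QuotientGroup.mk' (A.subgroupOf B) (⟨x, hxB⟩ : B)) ∣ p ^ k :=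
      orderOf_dvd_of_pow_eq_one (by
        rw [← map_pow, show (⟨x, hxB⟩ : B) ^ p ^ k = 1 from Subtype.ext hk, map_one])
    have h3 := Nat.eq_one_of_dvd_coprimes
      ((Nat.Coprime.coprime_dvd_left (dvd_mul_right _ _) hi).pow_right k) h1 h2
    have h4 := (QuotientGroup.eq_one_iff (N := A.subgroupOf B) (⟨x, hxB⟩ : B)).1 (orderOf_eq_one_iff.1 h3)
    exact h4

theorem coprime_index_pGen_top : (pGen p (⊤ : Subgroup G)).index.Coprime p := by
  refine ((Fact.out : p.Prime).coprime_iff_not_dvd.2 fun h => ?_).symm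
  obtain ⟨P⟩ := (inferInstance : Nonempty (Sylow p G))
  have hP : (P : Subgroup G) ≤ pGen p ⊤ := fun x hx => by
    obtain ⟨k, hk⟩ := P.2 ⟨x, hx⟩
    exact mem_pGen p (mem_top x) (congrArg Subtype.val hk)
  exact P.not_dvd_index (h.trans (index_dvd_of_le hP))

theorem pGen_le_of_subnormal_sup {H P₀ O : Subgroup G} (hH : H.IsSubnormal)
    [O.Normal] (hO : (Nat.card O).Coprime p) (hsup : P₀ ≤ H ⊔ O) : pGen p P₀ ≤ H := by
  refine (closure_le H).2 ?_
  rintro x ⟨hx, k, hk⟩
  have hi : (H.subgroupOf (H ⊔ O)).index.Coprime p := by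
    refine Nat.Coprime.coprime_dvd_left ?_ hO
    have h1 := Solvable.card_sup_mul_card_inf (le_normalizer_of_normal (H := O) (K := H))
    have h2 : H.relIndex (H ⊔ O) * Nat.card H = Nat.card ↥(H ⊔ O) := by
      rw [← relIndex_bot_left, ← relIndex_bot_left, mul_comm]
      exact relIndex_mul_relIndex _ _ _ bot_le le_sup_left
    refine Dvd.intro (Nat.card ↥(H ⊓ O)) ?_
    have hpos : 0 < Nat.card H := Nat.card_pos
    refine Nat.eq_of_mul_eq_mul_left hpos ?_
    rw [← h1, ← h2]
    show Nat.card H * (H.relIndex (H ⊔ O) * _) = _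
    ring
  exact mem_of_subnormal_index (x := (⟨x, hsup hx⟩ : ↥(H ⊔ O))) hH.subgroupOf hi (k := k)
    (Subtype.ext hk)

section Quotient

variable (p)

local notation "𝕆" => Cfsg.pPrimeCore p G
local notation "f" => QuotientGroup.mk' (Cfsg.pPrimeCore p G)

theorem component_pPrimeCore_eq_bot {K : Subgroup G} (hK : K.IsSubnormal)
    (hO : Cfsg.pPrimeCore p G = ⊥) : Cfsg.pPrimeCore p K = ⊥ := by
  refine map_injective K.subtype_injective ?_
  rw [Subgroup.map_bot, ← le_bot_iff]
  refine le_of_le_of_eq (subnormal_le_pPrimeCore ?_ ?_) hO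
  · exact IsSubnormal.trans' (Normal.isSubnormal inferInstance) hK
  · rw [card_map_of_injective K.subtype_injective]
    exact Solvable.coprime_card_pPrimeCore p

/-- In a quasisimple group with trivial `p'`-core, a normal subgroup of index prime to `p` is the
whole group. -/
theorem normal_eq_top_of_index {X : Type*} [Group X] [Finite X] (hX : Cfsg.IsQuasisimple X)
    (hO : Cfsg.pPrimeCore p X = ⊥) {N : Subgroup X} (hN : N.Normal) (hi : N.index.Coprime p) :
    N = ⊤ := by
  rcases Comp.quasisimple_normal hX hN with h | h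
  · exact h
  exfalso
  obtain ⟨P⟩ := (inferInstance : Nonempty (Sylow p X))
  have hPZ : (P : Subgroup X) ≤ center X := fun x hx => by
    obtain ⟨k, hk⟩ := P.2 ⟨x, hx⟩
    exact h (mem_of_subnormal_index hN.isSubnormal hi (congrArg Subtype.val hk))
  haveI hPn : (P : Subgroup X).Normal := ⟨fun x hx g => by
    rw [mem_center_iff.1 (hPZ hx) g, mul_inv_cancel_right]; exact hx⟩
  obtain ⟨k, hk⟩ := IsPGroup.iff_card.1 P.2
  have hidx : (P : Subgroup X).index.Coprime p :=
    ((Fact.out : p.Prime).coprime_iff_not_dvd.2 P.not_dvd_index).symm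
  obtain ⟨C, hC⟩ := Subgroup.exists_right_complement'_of_coprime (N := (P : Subgroup X))
    (hk ▸ (hidx.pow_right k).symm)
  have hCn : C.Normal := by
    rw [← normalizer_eq_top_iff, eq_top_iff, ← hC.sup_eq_top, sup_le_iff]
    exact ⟨hPZ.trans ((center_le_centralizer _).trans (centralizer_le_normalizer _)), le_normalizer⟩
  have hC1 : C = ⊥ := by
    refine le_bot_iff.1 (hO ▸ Solvable.le_pPrimeCore p hCn ?_)
    rw [← hC.symm.index_eq_card]
    exact hidx
  have htop : (P : Subgroup X) = ⊤ := by
    have := hC.sup_eq_top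
    rwa [hC1, sup_bot_eq] at this
  exact Comp.quasisimple_center_ne_top hX (top_le_iff.1 (htop ▸ hPZ))

/-- The `p`-component over a component of the quotient. -/
def compOver (Kb : Subgroup (G ⧸ Cfsg.pPrimeCore p G)) : Subgroup G :=
  pGen p (Kb.comap (QuotientGroup.mk' (Cfsg.pPrimeCore p G)))

theorem map_compOver {Kb : Subgroup (G ⧸ 𝕆)} (hKb : Cfsg.IsComponent Kb) :
    (compOver p Kb).map f = Kb := by
  set P₀ := Kb.comap f
  have hP₀ : P₀.map f = Kb := map_comap_eq_self_of_surjective (QuotientGroup.mk'_surjective _) Kb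
  refine le_antisymm ((map_mono (pGen_le p P₀)).trans hP₀.le) ?_
  have hle : (pGen p P₀).map f ≤ Kb := (map_mono (pGen_le p P₀)).trans hP₀.le
  haveI hn : (((pGen p P₀).map f).subgroupOf Kb).Normal := by
    refine (normal_subgroupOf_iff_le_normalizer hle).2 ?_
    rw [← hP₀]
    exact (map_mono (le_normalizer.trans (normalizer_le_normalizer_pGen p P₀))).trans
      (le_normalizer_map _)
  have hi : (((pGen p P₀).map f).subgroupOf Kb).index.Coprime p := by
    refine Nat.Coprime.coprime_dvd_left ?_ (coprime_index_pGen_top (G := P₀) (p := p))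
    have h1 : ((pGen p P₀).map f).relIndex (P₀.map f) ∣ (pGen p P₀).relIndex P₀ :=
      by
        rw [relIndex_map_map, QuotientGroup.ker_mk', sup_eq_left.2 (show 𝕆 ≤ P₀ from ?_)]
        · exact relIndex_dvd_of_le_left _ le_sup_left
        · intro x hx
          show f x ∈ Kb
          rw [show f x = 1 from (QuotientGroup.eq_one_iff x).2 hx]
          exact one_mem _
    rw [hP₀] at h1
    refine dvd_trans h1 (index_dvd_of_le ?_)
    intro x hx
    rw [mem_subgroupOf]
    have : (pGen p (⊤ : Subgroup P₀)).map P₀.subtype ≤ pGen p P₀ := by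
      rw [pGen, MonoidHom.map_closure]
      refine closure_mono ?_
      rintro _ ⟨y, ⟨-, k, hk⟩, rfl⟩
      exact ⟨y.2, k, congrArg Subtype.val hk⟩
    exact this (mem_map_of_mem _ hx)
  have := normal_eq_top_of_index p hKb.2
    (component_pPrimeCore_eq_bot p hKb.1 (Fitting.pPrimeCore_quotient_eq_bot p)) hn hi
  exact subgroupOf_eq_top.1 this

theorem compOver_le {H : Subgroup G} {Kb : Subgroup (G ⧸ 𝕆)} (hH : H.IsSubnormal)
    (hm : H.map f = Kb) : compOver p Kb ≤ H := by
  refine pGen_le_of_subnormal_sup hH (O := 𝕆) (Solvable.coprime_card_pPrimeCore p) ?_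
  rw [← hm, comap_map_eq, QuotientGroup.ker_mk']

theorem isPComponent_compOver {Kb : Subgroup (G ⧸ 𝕆)} (hKb : Cfsg.IsComponent Kb) :
    Cfsg.IsPComponent p (compOver p Kb) := by
  refine ⟨isSubnormal_pGen p (hKb.1.comap _), by rw [map_compOver p hKb]; exact hKb, ?_⟩
  intro H hH hle hm
  rw [map_compOver p hKb] at hm
  exact le_antisymm hle (compOver_le p hH hm)

theorem eq_compOver {K : Subgroup G} (hK : Cfsg.IsPComponent p K) :
    K = compOver p (K.map f) :=
  (hK.2.2 _ (isPComponent_compOver p hK.2.1).1 (compOver_le p hK.1 rfl) (map_compOver p hK.2.1)).symm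

theorem pComponent_le {K H : Subgroup G} (hK : Cfsg.IsPComponent p K) (hH : H.IsSubnormal)
    (hm : H.map f = K.map f) : K ≤ H :=
  (eq_compOver p hK).le.trans (compOver_le p hH hm)

theorem pComponent_ext {K L : Subgroup G} (hK : Cfsg.IsPComponent p K)
    (hL : Cfsg.IsPComponent p L) (h : K.map f = L.map f) : K = L := by
  rw [eq_compOver p hK, eq_compOver p hL, h]

theorem pComponent_perfect {K : Subgroup G} (hK : Cfsg.IsPComponent p K) : ⁅K, K⁆ = K := by
  refine hK.2.2 _ (Comp.isSubnormal_commutator hK.1) (commutator_le_self K) ?_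
  rw [map_commutator, Comp.component_perfect hK.2.1]

theorem map_ne_bot {K : Subgroup G} (hK : Cfsg.IsPComponent p K) : ¬ K ≤ 𝕆 := fun h =>
  Comp.component_ne_bot hK.2.1 ((Subgroup.map_eq_bot_iff _).2 (by rwa [QuotientGroup.ker_mk']))

theorem dvd_card {K : Subgroup G} (hK : Cfsg.IsPComponent p K) : p ∣ Nat.card K := by
  by_contra h
  exact map_ne_bot p hK
    (subnormal_le_pPrimeCore hK.1 ((Fact.out : p.Prime).coprime_iff_not_dvd.2 h).symm)

theorem normal_eq_top {K : Subgroup G} (hK : Cfsg.IsPComponent p K) {N : Subgroup K}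
    (hN : N.Normal) (hi : N.index.Coprime p) : N = ⊤ := by
  have hle : K ≤ N.map K.subtype := by
    refine (eq_compOver p hK).le.trans ((closure_le _).2 ?_)
    rintro x hx
    have hxK : x ∈ K := (eq_compOver p hK).ge (subset_closure hx)
    obtain ⟨-, k, hk⟩ := hx
    exact ⟨⟨x, hxK⟩, mem_of_subnormal_index hN.isSubnormal hi (k := k) (Subtype.ext hk), rfl⟩
  rw [eq_top_iff]
  intro x _
  obtain ⟨y, hy, e⟩ := hle x.2
  rwa [← Subtype.ext e]

theorem map_pLayer : (Cfsg.pLayer p G).map f = Cfsg.layer (G ⧸ 𝕆) := by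
  refine le_antisymm ?_ (sSup_le fun Kb hKb => ?_)
  · rw [map_le_iff_le_comap]
    exact sSup_le fun K hK => map_le_iff_le_comap.1 (Comp.component_le_layer hK.2.1)
  · rw [← map_compOver p hKb]
    exact map_mono (le_sSup (isPComponent_compOver p hKb))

theorem pComponent_le_pLayer {K : Subgroup G} (hK : Cfsg.IsPComponent p K) :
    K ≤ Cfsg.pLayer p G := le_sSup hK

theorem pLayer_le {H : Subgroup G} (h : ∀ K : Subgroup G, Cfsg.IsPComponent p K → K ≤ H) :
    Cfsg.pLayer p G ≤ H := sSup_le h

theorem pLayer_eq_bot_iff : Cfsg.pLayer p G = ⊥ ↔ Cfsg.layer (G ⧸ 𝕆) = ⊥ := by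
  constructor
  · intro h
    rw [← map_pLayer p, h, Subgroup.map_bot]
  · intro h
    refine le_bot_iff.1 (pLayer_le p fun K hK => ?_)
    have h1 := Comp.component_le_layer hK.2.1
    rw [h, le_bot_iff] at h1
    exact absurd h1 (Comp.component_ne_bot hK.2.1)

theorem normalizer_map_le {K : Subgroup G} (hK : Cfsg.IsPComponent p K) :
    (normalizer ((K.map f : Subgroup (G ⧸ 𝕆)) : Set (G ⧸ 𝕆))).comap f ≤
      normalizer (K : Set G) := by
  refine le_trans ?_ (le_of_le_of_eq (normalizer_le_normalizer_pGen p _)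
    (congrArg (fun H : Subgroup G => normalizer (H : Set G)) (eq_compOver p hK).symm))
  exact le_normalizer_comap f

theorem pLayer_le_normalizer {K : Subgroup G} (hK : Cfsg.IsPComponent p K) :
    Cfsg.pLayer p G ≤ normalizer (K : Set G) :=
  (map_le_iff_le_comap.1 ((map_pLayer p).le.trans
    (Comp.layer_le_normalizer_component hK.2.1))).trans (normalizer_map_le p hK)

theorem pComponent_normal_in_pLayer {K : Subgroup G} (hK : Cfsg.IsPComponent p K) :
    (K.subgroupOf (Cfsg.pLayer p G)).Normal :=
  (normal_subgroupOf_iff_le_normalizer (pComponent_le_pLayer p hK)).2 (pLayer_le_normalizer p hK)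

theorem pPrimeCore_eq_inf {K : Subgroup G} (hK : K.IsSubnormal) :
    (Cfsg.pPrimeCore p K).map K.subtype = 𝕆 ⊓ K := by
  refine le_antisymm (le_inf (subnormal_le_pPrimeCore ?_ ?_) (map_subtype_le _)) ?_
  · exact IsSubnormal.trans' (Normal.isSubnormal inferInstance) hK
  · rw [card_map_of_injective K.subtype_injective]
    exact Solvable.coprime_card_pPrimeCore p
  · haveI : ((𝕆 ⊓ K).subgroupOf K).Normal :=
      (normal_subgroupOf_iff_le_normalizer inf_le_right).2
        ((le_inf le_normalizer_of_normal le_normalizer).trans inf_normalizer_le_normalizer_inf)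
    rw [← map_subgroupOf_eq_of_le (inf_le_right : 𝕆 ⊓ K ≤ K)]
    refine map_mono (Solvable.le_pPrimeCore p inferInstance ?_)
    rw [Nat.card_congr (subgroupOfEquivOfLe (inf_le_right : 𝕆 ⊓ K ≤ K)).toEquiv]
    exact (Solvable.coprime_card_pPrimeCore p).coprime_dvd_left (card_dvd_of_le inf_le_left)

theorem isQuasisimple_quotient {K : Subgroup G} (hK : Cfsg.IsPComponent p K) :
    Cfsg.IsQuasisimple (↥K ⧸ Cfsg.pPrimeCore p K) := by
  have hker : (MonoidHom.subgroupMap f K).ker = Cfsg.pPrimeCore p K := by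
    apply map_injective K.subtype_injective
    rw [pPrimeCore_eq_inf p hK.1]
    ext x
    constructor
    · rintro ⟨y, hy, rfl⟩
      exact ⟨(QuotientGroup.eq_one_iff _).1 (congrArg Subtype.val (MonoidHom.mem_ker.1 hy)), y.2⟩
    · rintro ⟨h1, h2⟩
      exact ⟨⟨x, h2⟩, MonoidHom.mem_ker.2 (Subtype.ext ((QuotientGroup.eq_one_iff _).2 h1)), rfl⟩
  exact Comp.isQuasisimple_of_equiv ((QuotientGroup.quotientMulEquivOfEq hker.symm).trans
    (QuotientGroup.quotientKerEquivOfSurjective _ (MonoidHom.subgroupMap_surjective f K))).symm hK.2.1.2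

theorem pComponent_commutator_le {K L : Subgroup G} (hK : Cfsg.IsPComponent p K)
    (hL : Cfsg.IsPComponent p L) (hne : K ≠ L) :
    ⁅K, L⁆ ≤ (Cfsg.pPrimeCore p K).map K.subtype := by
  rw [pPrimeCore_eq_inf p hK.1]
  refine le_inf ?_ (le_normalizer_iff_commutator_le_left.1
    ((pComponent_le_pLayer p hL).trans (pLayer_le_normalizer p hK)))
  rcases Comp.component_eq_or_commute hK.2.1 hL.2.1 with h | h
  · exact absurd (pComponent_ext p hK hL h) hne
  · rw [← map_commutator, Subgroup.map_eq_bot_iff, QuotientGroup.ker_mk'] at h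
    exact h

/-- The minimality property of a `p`-component among perfect subnormal subgroups. -/
theorem eq_of_perfect {K H : Subgroup G} (hK : Cfsg.IsPComponent p K) (hle : H ≤ K)
    (hH : H.IsSubnormal) (hperf : ⁅H, H⁆ = H) (hd : p ∣ Nat.card H) : H = K := by
  refine hK.2.2 H hH hle (le_antisymm (map_mono hle) ?_)
  have hsn : ((H.map f).subgroupOf (K.map f)).IsSubnormal := (hH.map (QuotientGroup.mk'_surjective _)).subgroupOf
  rcases Comp.quasisimple_subnormal hK.2.1.2 hsn with h | h
  · exact subgroupOf_eq_top.1 h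
  · exfalso
    have h1 : ⁅H.map f, H.map f⁆ = ⊥ := by
      rw [commutator_eq_bot_iff_le_centralizer]
      intro x hx
      refine mem_centralizer_iff.2 fun y hy => ?_
      have := mem_center_iff.1 (h (show (⟨x, map_mono hle hx⟩ : K.map f) ∈ _ from hx))
        ⟨y, map_mono hle hy⟩
      exact congrArg Subtype.val this
    rw [← map_commutator, hperf, Subgroup.map_eq_bot_iff, QuotientGroup.ker_mk'] at h1
    exact (Fact.out : p.Prime).ne_one (Nat.eq_one_of_dvd_coprimes
      ((Solvable.coprime_card_pPrimeCore (G := G) p).coprime_dvd_left (card_dvd_of_le h1)) hd dvd_rfl)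

/-- A subgroup whose `p`-component is quasisimple. -/
theorem isQuasisimple_iff {K : Subgroup G} (hK : Cfsg.IsPComponent p K) :
    Cfsg.IsQuasisimple K ↔ ⁅K, (Cfsg.pPrimeCore p K).map K.subtype⁆ = ⊥ := by
  set N := Cfsg.pPrimeCore p K
  have hperf : Group.IsPerfect K := by
    rw [Group.isPerfect_def]
    apply map_injective K.subtype_injective
    rw [map_subtype_commutator, pComponent_perfect p hK, ← MonoidHom.range_eq_map, range_subtype]
  have hNtop : N ≠ ⊤ := fun h => by
    have h1 := Solvable.coprime_card_pPrimeCore (G := K) p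
    rw [show Cfsg.pPrimeCore p K = ⊤ from h, Subgroup.card_top] at h1
    exact (Fact.out : p.Prime).ne_one (Nat.eq_one_of_dvd_coprimes h1 (dvd_card p hK) dvd_rfl)
  have hconv : ⁅K, N.map K.subtype⁆ = ⊥ ↔ N ≤ center K := by
    rw [commutator_comm, commutator_eq_bot_iff_le_centralizer]
    constructor
    · intro h x hx
      refine mem_center_iff.2 fun y => Subtype.ext ?_
      exact mem_centralizer_iff.1 (h ⟨x, hx, rfl⟩) y y.2
    · rintro h _ ⟨x, hx, rfl⟩
      exact mem_centralizer_iff.2 fun y hy => congrArg Subtype.val (mem_center_iff.1 (h hx) ⟨y, hy⟩)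
  rw [hconv]
  constructor
  · intro hQ
    exact (Comp.quasisimple_normal hQ (inferInstance : N.Normal)).resolve_left hNtop
  · intro hN
    refine ⟨hperf, ?_⟩
    have hQ := isQuasisimple_quotient p hK
    haveI := hQ.2
    have hc : center K = (center (↥K ⧸ N)).comap (QuotientGroup.mk' N) := by
      refine le_antisymm (fun x hx => ?_) (fun x hx => ?_)
      · refine mem_center_iff.2 fun q => ?_
        obtain ⟨y, rfl⟩ := QuotientGroup.mk'_surjective N q
        rw [← map_mul, ← map_mul, mem_center_iff.1 hx y]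
      · have h2 : ⁅⁅zpowers x, (⊤ : Subgroup K)⁆, (⊤ : Subgroup K)⁆ = ⊥ := by
          rw [commutator_eq_bot_iff_le_centralizer]
          refine le_trans ?_ (hN.trans (center_le_centralizer _))
          rw [commutator_le]
          intro a ha b _
          refine (QuotientGroup.eq_one_iff _).1 ?_
          show QuotientGroup.mk' N ⁅a, b⁆ = 1
          obtain ⟨i, rfl⟩ := mem_zpowers_iff.1 ha
          rw [map_commutatorElement, map_zpow, commutatorElement_eq_one_iff_mul_comm]
          exact ((Commute.zpow_left (show Commute _ _ from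
            (mem_center_iff.1 hx (QuotientGroup.mk' N b)).symm) i)).eq
        have h3 := Comp.commutator_eq_bot_of_perfect (K := zpowers x) (H := (⊤ : Subgroup K))
          (by rw [← _root_.commutator_def]; exact Group.IsPerfect.commutator_eq_top) h2
        rw [commutator_eq_bot_iff_le_centralizer] at h3
        refine mem_center_iff.2 fun y => ?_
        exact mem_centralizer_iff.1 (h3 (mem_zpowers x)) y (mem_top y)
    have hg : Function.Surjective ((QuotientGroup.mk' (center (↥K ⧸ N))).comp (QuotientGroup.mk' N)) :=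
      (QuotientGroup.mk'_surjective _).comp (QuotientGroup.mk'_surjective _)
    have hk : center K = ((QuotientGroup.mk' (center (↥K ⧸ N))).comp (QuotientGroup.mk' N)).ker := by
      rw [← MonoidHom.comap_ker, QuotientGroup.ker_mk', hc]
    exact ((QuotientGroup.quotientMulEquivOfEq hk).trans
      (QuotientGroup.quotientKerEquivOfSurjective _ hg)).isSimpleGroup

end Quotient

end CfsgLib.PComp
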