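import Cfsg.Agent.Comp.Layer
import Cfsg.Agent.KGroup.CharP
import Cfsg.Agent.Solvable.Fitting

/-!
Layers of `p`-local subgroups centralize `O_p(G)`; characteristic `p` passes to local subgroups.
-/

set_option autoImplicit false
set_option linter.unusedSectionVars false
set_option linter.deprecated false
set_option linter.style.haveILetI false

namespace CfsgLib.LocalLayer

open Subgroup
open scoped commutatorElement

variable {G : Type*} [Group G] [Finite G] {p : ℕ} [Fact p.Prime]

/-- A finite group which is perfect modulo a normal `p'`-subgroup is generated by its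
`p'`-elements. -/
theorem closure_coprime_eq_top {X : Type*} [Group X] [Finite X] {O : Subgroup X}
    (hO : (Nat.card O).Coprime p) (hperf : commutator X ⊔ O = ⊤) :
    Subgroup.closure {x : X | (orderOf x).Coprime p} = ⊤ := by
  set S := Subgroup.closure {x : X | (orderOf x).Coprime p} with hS
  haveI : S.Normal := by
    refine ⟨fun n hn g => ?_⟩
    have h1 : S.map (MulAut.conj g).toMonoidHom ≤ S := by
      rw [hS, MonoidHom.map_closure]
      refine closure_mono ?_
      rintro _ ⟨x, hx, rfl⟩
      show (orderOf ((MulAut.conj g) x)).Coprime p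
      rwa [MulEquiv.orderOf_eq]
    exact h1 ⟨n, hn, rfl⟩
  have hOS : O ≤ S := fun x hx =>
    subset_closure (show (orderOf x).Coprime p from hO.coprime_dvd_left (orderOf_dvd_natCard O hx))
  have hq : IsPGroup p (X ⧸ S) := by
    intro q
    obtain ⟨x, rfl⟩ := QuotientGroup.mk'_surjective S q
    obtain ⟨k, m, hm, hxo⟩ := Nat.exists_eq_pow_mul_and_not_dvd (orderOf_pos x).ne' p
      (Fact.out : p.Prime).ne_one
    refine ⟨k, ?_⟩
    rw [← map_pow]
    refine (QuotientGroup.eq_one_iff _).2 (subset_closure ?_)
    show (orderOf (x ^ p ^ k)).Coprime p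
    rw [orderOf_pow_of_dvd (pow_pos (Fact.out : p.Prime).pos k).ne' ⟨m, hxo⟩, hxo,
      Nat.mul_div_cancel_left _ (pow_pos (Fact.out : p.Prime).pos k)]
    exact ((Fact.out : p.Prime).coprime_iff_not_dvd.2 hm).symm
  have htop : commutator (X ⧸ S) = ⊤ := by
    have h1 := congrArg (Subgroup.map (QuotientGroup.mk' S)) hperf
    rw [Subgroup.map_sup, map_top_of_surjective _ (QuotientGroup.mk'_surjective S), _root_.commutator_def,
      map_commutator, map_top_of_surjective _ (QuotientGroup.mk'_surjective S)] at h1
    rw [show O.map (QuotientGroup.mk' S) = ⊥ by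
      rw [Subgroup.map_eq_bot_iff, QuotientGroup.ker_mk']; exact hOS, sup_bot_eq] at h1
    rw [_root_.commutator_def]; exact h1
  haveI := hq.isNilpotent
  have hsub : Subsingleton (X ⧸ S) := by
    by_contra hne
    haveI := not_subsingleton_iff_nontrivial.1 hne
    exact (Group.IsSolvable.commutator_lt_top_of_nontrivial (G := X ⧸ S)).ne htop
  rw [eq_top_iff]
  intro x _
  exact (QuotientGroup.eq_one_iff x).1 (Subsingleton.elim _ 1)

/-- The `P × Q` lemma for subgroups generated by `p'`-elements. -/
theorem le_centralizer_of_perfect_mod {L O T R : Subgroup G} (hO : (Nat.card O).Coprime p)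
    (hL : L ≤ ⁅L, L⁆ ⊔ O) (hOL : O ≤ L) (hT : IsPGroup p T) (hR : IsPGroup p R)
    (hTR : T ≤ normalizer (R : Set G)) (hLR : L ≤ normalizer (R : Set G))
    (hLT : L ≤ centralizer (T : Set G)) (hLfix : L ≤ centralizer ((R ⊓ centralizer (T : Set G) : Subgroup G) : Set G)) :
    L ≤ centralizer (R : Set G) := by
  have hperf : commutator L ⊔ O.subgroupOf L = ⊤ := by
    apply map_injective L.subtype_injective
    rw [Subgroup.map_sup, map_subtype_commutator, map_subgroupOf_eq_of_le hOL, ← MonoidHom.range_eq_map,
      range_subtype]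
    exact le_antisymm (sup_le (commutator_le_self L) hOL) hL
  have hcl := closure_coprime_eq_top (p := p) (O := O.subgroupOf L)
    (by rwa [Nat.card_congr (subgroupOfEquivOfLe hOL).toEquiv]) hperf
  suffices (⊤ : Subgroup L) ≤ (centralizer (R : Set G)).subgroupOf L from
    fun x hx => this (mem_top (⟨x, hx⟩ : L))
  rw [← hcl, closure_le]
  intro y hy
  have h := CharP.centralizes_of_centralizes_fixed hT hR hTR (hLR y.2) (hLT y.2)
    (by rwa [orderOf_coe]) (fun z hz => mem_centralizer_singleton_iff.2
      (mem_centralizer_iff.1 (hLfix y.2) z hz))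
  show (y : G) ∈ centralizer (R : Set G)
  exact mem_centralizer_iff.2 fun z hz => mem_centralizer_singleton_iff.1 (h hz)

/-- A subgroup that is perfect modulo a normal `p'`-subgroup `O` of `N(P)`, and centralizes every
normal `p`-subgroup of `N(P)` modulo `O`, centralizes `O_p(G)`. -/
theorem le_centralizer_pCore {P L O : Subgroup G} (hP : IsPGroup p P)
    (hO : (Nat.card O).Coprime p) (hOL : O ≤ L) (hL : L ≤ ⁅L, L⁆ ⊔ O)
    (hc : ∀ R : Subgroup G, IsPGroup p R → R ≤ normalizer (P : Set G) →
      normalizer (P : Set G) ≤ normalizer (R : Set G) → L ≤ centralizer (R : Set G)) :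
    L ≤ centralizer (Cfsg.pCore p G : Set G) := by
  refine le_centralizer_of_perfect_mod hO hL hOL hP (Solvable.isPGroup_pCore p)
    le_normalizer_of_normal le_normalizer_of_normal (hc P hP le_normalizer le_rfl) ?_
  have h1 : Cfsg.pCore p G ⊓ normalizer (P : Set G) ≤ normalizer (P : Set G) := inf_le_right
  exact (hc _ ((Solvable.isPGroup_pCore p).to_le inf_le_left) h1
    ((le_inf le_normalizer_of_normal le_normalizer).trans inf_normalizer_le_normalizer_inf)).trans
    (centralizer_le (inf_le_inf_left _ (centralizer_le_normalizer _)))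

/-- `E(N(P))` centralizes `O_p(G)`. -/
theorem map_layer_le_centralizer_pCore {P : Subgroup G} (hP : IsPGroup p P) :
    (Cfsg.layer ↥(normalizer (P : Set G))).map (normalizer (P : Set G)).subtype ≤
      centralizer (Cfsg.pCore p G : Set G) := by
  set N := normalizer (P : Set G)
  refine le_centralizer_pCore hP (O := ⊥) (by simp) bot_le ?_ ?_
  · rw [sup_bot_eq, ← map_commutator, Comp.layer_perfect]
  · intro R hR hRN hNR
    haveI : (R.subgroupOf N).Normal := (normal_subgroupOf_iff_le_normalizer hRN).2 hNR
    haveI : Group.IsNilpotent (R.subgroupOf N) := (hR.comap_subtype (K := N)).isNilpotent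
    have h := Comp.layer_commutator_normal_solvable (H := R.subgroupOf N) (inferInstance)
    have h2 := Comp.le_centralizer_of_commutator_eq_bot h
    rintro _ ⟨x, hx, rfl⟩
    refine mem_centralizer_iff.2 fun z hz => ?_
    exact congrArg Subtype.val (mem_centralizer_iff.1 (h2 hx) ⟨z, hRN hz⟩ hz)

theorem isPGroup_Fstar_iff : IsPGroup p (Cfsg.generalizedFittingSubgroup G) ↔
    CharP.HasCharP p G := by
  constructor
  · intro h
    refine CharP.hasCharP_of_Fstar (le_antisymm ?_ ?_)
    · exact Solvable.le_pCore p (by
        haveI : (Cfsg.layer G).Normal := inferInstance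
        rw [Cfsg.generalizedFittingSubgroup]; infer_instance) h
    · exact (Comp.pCore_le_fitting p).trans le_sup_right
  · intro h
    rw [h.Fstar_eq]
    exact Solvable.isPGroup_pCore p

theorem hasCharP_centralizer_one (hG : CharP.HasCharP p G) :
    CharP.HasCharP p (centralizer ({(1 : G)} : Set G)) := by
  have htop : centralizer ({(1 : G)} : Set G) = ⊤ := by
    rw [eq_top_iff]
    exact fun x _ => mem_centralizer_singleton_iff.2 (by simp)
  rw [htop]
  exact hG.of_mulEquiv topEquiv.symm

theorem hasCharP_normalizer_of_hasCharP (hG : CharP.HasCharP p G) {P : Subgroup G}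
    (hP : IsPGroup p P) : CharP.HasCharP p (normalizer (P : Set G)) :=
  CharP.hasCharP_normalizer hP (one_mem P) (hasCharP_centralizer_one hG)

end CfsgLib.LocalLayer
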