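import Cfsg.Prelude.Def_Balance
import Cfsg.Agent.Comp.PComponent
import Cfsg.Agent.Coprime.Sylow

/-!
`p`-constraint in terms of the `p`-layer, Sylow intersections with subnormal subgroups, and the
extended 2-layer.
-/

set_option autoImplicit false
set_option linter.unusedSectionVars false
set_option linter.deprecated false
set_option linter.style.haveILetI false

namespace CfsgLib.ExtTwoLayer

open Subgroup Pointwise

variable {G : Type*} [Group G] [Finite G] {p : ℕ} [Fact p.Prime]

theorem coprime_relIndex_inf_of_subnormal {H : Subgroup G} (hH : H.IsSubnormal) (P : Sylow p G) :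
    ((P : Subgroup G).relIndex H).Coprime p := by
  induction hH with
  | top =>
    rw [relIndex_top_right]
    exact ((Fact.out : p.Prime).coprime_iff_not_dvd.2 P.not_dvd_index).symm
  | step A B hle hB hn ih =>
    refine Nat.Coprime.coprime_dvd_left ?_ ih
    set A' := A.subgroupOf B
    set P' := (P : Subgroup G).subgroupOf B
    haveI : A'.Normal := hn
    have h1 : (P : Subgroup G).relIndex A = P'.relIndex A' := by
      rw [← relIndex_map_map_of_injective P' A' B.subtype_injective, subgroupOf_map_subtype,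
        map_subgroupOf_eq_of_le hle, ← inf_relIndex_right ((P : Subgroup G) ⊓ B) A, inf_assoc,
        inf_eq_right.2 hle, inf_relIndex_right]
    rw [h1]
    show _ ∣ P'.index
    have h2 := Solvable.card_sup_mul_card_inf (le_normalizer_of_normal (H := A') (K := P'))
    have h3 : P'.relIndex A' * Nat.card ↥(P' ⊓ A') = Nat.card A' := by
      rw [← inf_relIndex_right, ← relIndex_bot_left, ← relIndex_bot_left, mul_comm]
      exact relIndex_mul_relIndex _ _ _ bot_le inf_le_right
    refine Nat.dvd_of_mul_dvd_mul_right (Nat.card_pos (α := P')) ?_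
    rw [index_mul_card]
    refine dvd_trans (dvd_of_eq ?_) (Subgroup.card_subgroup_dvd_card (P' ⊔ A'))
    refine Nat.eq_of_mul_eq_mul_right (Nat.card_pos (α := ↥(P' ⊓ A'))) ?_
    rw [h2, ← h3]
    ring

theorem map_pPrimePCore : (Cfsg.pPrimePCore p G).map (QuotientGroup.mk' (Cfsg.pPrimeCore p G)) =
      Cfsg.pCore p (G ⧸ Cfsg.pPrimeCore p G) :=
  map_comap_eq_self_of_surjective (QuotientGroup.mk'_surjective _) _

/-- A Sylow `p`-subgroup of `O_{p',p}(G)` covers it modulo `O_{p'}(G)`. -/
theorem pPrimePCore_le_sup {P : Subgroup G} (hP : P ≤ Cfsg.pPrimePCore p G)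
    (hi : (P.relIndex (Cfsg.pPrimePCore p G)).Coprime p) :
    Cfsg.pPrimePCore p G ≤ P ⊔ Cfsg.pPrimeCore p G := by
  set f := QuotientGroup.mk' (Cfsg.pPrimeCore p G)
  set M := Cfsg.pPrimePCore p G
  have hle : P.map f ≤ M.map f := map_mono hP
  have h1 : (P.map f).relIndex (M.map f) ∣ P.relIndex M := by
    rw [relIndex_map_map, QuotientGroup.ker_mk',
      sup_eq_left.2 (show Cfsg.pPrimeCore p G ≤ M from fun x hx => by
        show f x ∈ Cfsg.pCore p _
        rw [show f x = 1 from (QuotientGroup.eq_one_iff x).2 hx]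
        exact one_mem _)]
    exact relIndex_dvd_of_le_left _ le_sup_left
  have hMp : IsPGroup p ↥(M.map f) := by
    rw [map_pPrimePCore]
    exact Solvable.isPGroup_pCore p
  obtain ⟨k, hk⟩ := IsPGroup.iff_card.1 hMp
  have h2 : (P.map f).relIndex (M.map f) ∣ p ^ k := hk ▸ relIndex_dvd_card _ _
  have h3 := Nat.eq_one_of_dvd_coprimes (hi.pow_right k) h1 h2
  have h4 : M.map f = P.map f := le_antisymm (relIndex_eq_one.1 h3) hle
  refine (le_comap_map f M).trans ?_
  rw [h4, comap_map_eq, QuotientGroup.ker_mk']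

theorem isPConstrained_iff : Cfsg.IsPConstrained p G ↔ Cfsg.pLayer p G = ⊥ := by
  rw [PComp.pLayer_eq_bot_iff]
  set f := QuotientGroup.mk' (Cfsg.pPrimeCore p G)
  set M := Cfsg.pPrimePCore p G
  set F := Cfsg.pCore p (G ⧸ Cfsg.pPrimeCore p G)
  have hchar : Cfsg.layer (G ⧸ Cfsg.pPrimeCore p G) = ⊥ ↔ centralizer (F : Set (G ⧸ Cfsg.pPrimeCore p G)) ≤ F := by
    constructor
    · intro h
      have h1 := Comp.centralizer_Fstar_le (G := G ⧸ Cfsg.pPrimeCore p G)
      rw [Cfsg.generalizedFittingSubgroup, h, bot_sup_eq,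
        Fitting.fittingSubgroup_eq_pCore (Fitting.pPrimeCore_quotient_eq_bot p)] at h1
      exact h1
    · intro h
      refine le_bot_iff.1 (Comp.layer_le fun L hL => ?_)
      exfalso
      haveI : Group.IsNilpotent F := (Solvable.isPGroup_pCore p).isNilpotent
      exact Comp.component_not_le_solvable hL (inferInstanceAs (Group.IsSolvable F))
        ((Comp.le_centralizer_of_commutator_eq_bot
          (Comp.component_commutator_normal_solvable (H := F) hL inferInstance)).trans h)
  rw [hchar]
  constructor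
  · intro hc z hz
    obtain ⟨g, rfl⟩ := QuotientGroup.mk'_surjective (Cfsg.pPrimeCore p G) z
    obtain ⟨P⟩ := (inferInstance : Nonempty (Sylow p ↥M))
    set P' := (P : Subgroup ↥M).map M.subtype
    haveI : Group.IsNilpotent P' := (P.2.map M.subtype).isNilpotent
    obtain ⟨j, hj⟩ := IsPGroup.iff_card.1 (P.2.map M.subtype)
    obtain ⟨c, hc1, hc2⟩ := Coprime.exists_commute_mem_coset P' (Cfsg.pPrimeCore p G)
      le_normalizer_of_normal
      (hj ▸ ((Solvable.coprime_card_pPrimeCore p).pow_right j).symm) g (fun x hx => by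
        refine (QuotientGroup.eq_one_iff _).1 ?_
        show f _ = 1
        have h1 := mem_centralizer_iff.1 hz (f x) (by
          obtain ⟨⟨y, hy⟩, -, rfl⟩ := hx
          exact hy)
        simp only [f, map_mul, map_inv] at h1 ⊢
        rw [h1]
        group)
    have h2 : f c = f g := by
      have : f (g⁻¹ * c) = 1 := (QuotientGroup.eq_one_iff _).2 hc2
      rw [map_mul, map_inv, inv_mul_eq_one] at this
      exact this.symm
    rw [← h2]
    exact hc P (mem_centralizer_iff.2 hc1)
  · intro hc P x hx
    show f x ∈ F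
    refine hc ?_
    refine mem_centralizer_iff.2 fun z hz => ?_
    have hcov := pPrimePCore_le_sup (p := p) (map_subtype_le (P : Subgroup ↥M)) (by
      rw [relIndex, ← comap_subtype, comap_map_eq_self_of_injective M.subtype_injective]
      exact ((Fact.out : p.Prime).coprime_iff_not_dvd.2 P.not_dvd_index).symm)
    have hz' : z ∈ M.map f := map_pPrimePCore.ge hz
    have hz'' := (map_mono hcov) hz'
    rw [Subgroup.map_sup, (Subgroup.map_eq_bot_iff _).2 (QuotientGroup.ker_mk' _).ge, sup_bot_eq] at hz''
    obtain ⟨y, hy, rfl⟩ := hz''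
    rw [← map_mul, ← map_mul, mem_centralizer_iff.1 hx y hy]

/-- The core of the centralizer of `T`. -/
def coreCent (T : Subgroup G) : Subgroup G :=
  (Cfsg.oddCore ↥(centralizer (T : Set G))).map (centralizer (T : Set G)).subtype

theorem coreCent_le (T : Subgroup G) : coreCent T ≤ centralizer (T : Set G) := map_subtype_le _

theorem coprime_card_coreCent (T : Subgroup G) : (Nat.card (coreCent T)).Coprime 2 := by
  rw [coreCent, card_map_of_injective (subtype_injective _)]
  exact Solvable.coprime_card_pPrimeCore 2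

theorem coreCent_map_equiv_le (e : G ≃* G) (T : Subgroup G) :
    (coreCent T).map e.toMonoidHom ≤ coreCent (T.map e.toMonoidHom) := by
  have hC : centralizer ((T.map e.toMonoidHom : Subgroup G) : Set G) =
      (centralizer (T : Set G)).map e.toMonoidHom := by
    ext x
    constructor
    · intro hx
      refine ⟨e.symm x, mem_centralizer_iff.2 fun t ht => e.injective ?_, by simp⟩
      have := mem_centralizer_iff.1 hx (e t) ⟨t, ht, rfl⟩
      simpa using this
    · rintro ⟨y, hy, rfl⟩
      refine mem_centralizer_iff.2 ?_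
      rintro _ ⟨t, ht, rfl⟩
      exact (map_mul e t y).symm.trans ((congrArg e (mem_centralizer_iff.1 hy t ht)).trans (map_mul e y t))
  set D := (coreCent T).map e.toMonoidHom
  set C := centralizer ((T.map e.toMonoidHom : Subgroup G) : Set G)
  have hDC : D ≤ C := (map_mono (coreCent_le T)).trans hC.ge
  haveI : (D.subgroupOf C).Normal := by
    refine (normal_subgroupOf_iff_le_normalizer hDC).2 (hC.le.trans ?_)
    exact (map_mono (Comp.normal_map_subtype_iff.1
      (Solvable.pPrimeCore_normal (G := ↥(centralizer (T : Set G))) 2))).trans (le_normalizer_map _)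
  rw [← map_subgroupOf_eq_of_le hDC]
  refine map_mono (Solvable.le_pPrimeCore 2 inferInstance ?_)
  rw [Nat.card_congr (subgroupOfEquivOfLe hDC).toEquiv,
    card_map_of_injective (f := e.toMonoidHom) e.injective]
  exact coprime_card_coreCent T

theorem normalizer_le_normalizer_coreCent (T : Subgroup G) :
    normalizer (T : Set G) ≤ normalizer (coreCent T : Set G) := by
  intro g hg
  have key : ∀ g ∈ normalizer (T : Set G), ∀ x ∈ coreCent T, g * x * g⁻¹ ∈ coreCent T := by
    intro g hg x hx
    have h := coreCent_map_equiv_le (MulAut.conj g) T ⟨x, hx, rfl⟩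
    rwa [show T.map (MulAut.conj g).toMonoidHom = T from mem_normalizer_iff_map_conj_eq.1 hg] at h
  refine mem_normalizer_iff.2 fun x => ⟨key g hg x, fun hx => ?_⟩
  have := key g⁻¹ (inv_mem hg) _ hx
  simpa [mul_assoc] using this

variable (G)

/-- The normal subgroup `L_{2'}(X) O_{2',2}(X)`. -/
def base : Subgroup G := Cfsg.pLayer 2 G ⊔ Cfsg.pPrimePCore 2 G

variable {G}

theorem pLayer_normal (q : ℕ) [Fact q.Prime] : (Cfsg.pLayer q G).Normal := by
  refine ⟨fun x hx g => ?_⟩
  have h : Cfsg.pLayer q G ≤ (Cfsg.pLayer q G).comap (MulAut.conj g).toMonoidHom := by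
    refine PComp.pLayer_le q fun K hK => ?_
    rw [← map_le_iff_le_comap]
    set f := QuotientGroup.mk' (Cfsg.pPrimeCore q G)
    have hm : (K.map (MulAut.conj g).toMonoidHom).map f = (K.map f).map (MulAut.conj (f g)).toMonoidHom := by
      rw [Subgroup.map_map, Subgroup.map_map]
      congr 1
    have hc : Cfsg.IsComponent ((K.map f).map (MulAut.conj (f g)).toMonoidHom) :=
      Comp.component_map_equiv (MulAut.conj (f g)) hK.2.1
    have h1 := PComp.compOver_le q (hK.1.comap (MulAut.conj g⁻¹).toMonoidHom)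
      (Kb := (K.map f).map (MulAut.conj (f g)).toMonoidHom) (by
        rw [← hm]
        congr 1
        ext x
        constructor
        · intro hx
          exact ⟨g⁻¹ * x * g⁻¹⁻¹, hx, by simp [mul_assoc]⟩
        · rintro ⟨y, hy, rfl⟩
          simpa [mul_assoc] using hy)
    have h2 : K.map (MulAut.conj g).toMonoidHom ≤ PComp.compOver q ((K.map f).map (MulAut.conj (f g)).toMonoidHom) := by
      have hsn : ((PComp.compOver q ((K.map f).map (MulAut.conj (f g)).toMonoidHom)).comap
          (MulAut.conj g).toMonoidHom).IsSubnormal := ((PComp.isPComponent_compOver q hc).1).comap _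
      rw [map_le_iff_le_comap]
      refine PComp.pComponent_le q hK hsn ?_
      have h3 : ∀ H : Subgroup G, (H.map (MulAut.conj g).toMonoidHom).map f =
          (H.map f).map (MulAut.conj (f g)).toMonoidHom := by
        intro H
        rw [Subgroup.map_map, Subgroup.map_map]
        congr 1
      refine map_injective (f := (MulAut.conj (f g)).toMonoidHom) (MulAut.conj (f g)).injective ?_
      rw [← h3, map_comap_eq_self_of_surjective
        (f := (MulAut.conj g).toMonoidHom) (MulAut.conj g).surjective, PComp.map_compOver q hc]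
    exact h2.trans (PComp.pComponent_le_pLayer q (PComp.isPComponent_compOver q hc))
  exact h hx

theorem base_normal : (base G).Normal := by
  haveI := pLayer_normal (G := G) 2
  unfold base Cfsg.pPrimePCore
  infer_instance

theorem oddCore_le_base : Cfsg.oddCore G ≤ base G := by
  refine le_trans ?_ le_sup_right
  intro x hx
  show QuotientGroup.mk' _ x ∈ Cfsg.pCore 2 _
  rw [show QuotientGroup.mk' (Cfsg.pPrimeCore 2 G) x = 1 from (QuotientGroup.eq_one_iff x).2 hx]
  exact one_mem _

variable (T : Sylow 2 ↥(base G))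

/-- The Sylow subgroup as a subgroup of `G`. -/
def sylowBase : Subgroup G := (T : Subgroup ↥(base G)).map (base G).subtype

theorem base_le : base G ≤ Cfsg.pLayer 2 G ⊔ Cfsg.oddCore G ⊔ sylowBase T := by
  refine sup_le (le_sup_left.trans le_sup_left) ?_
  set M := Cfsg.pPrimePCore 2 G
  haveI : M.Normal := by unfold M Cfsg.pPrimePCore; infer_instance
  haveI : Fact (Nat.Prime 2) := ⟨Nat.prime_two⟩
  have hi : ((sylowBase T ⊓ M).relIndex M).Coprime 2 := by
    rw [inf_relIndex_right]
    have h := coprime_relIndex_inf_of_subnormal (H := M.subgroupOf (base G))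
      (Normal.isSubnormal inferInstance) T
    rwa [← relIndex_map_map_of_injective (T : Subgroup ↥(base G)) (M.subgroupOf (base G))
      (base G).subtype_injective, map_subgroupOf_eq_of_le (show M ≤ base G from le_sup_right)] at h
  exact (pPrimePCore_le_sup inf_le_right hi).trans
    (sup_le (inf_le_left.trans le_sup_right) (le_sup_right.trans le_sup_left))

theorem base_le_normalizer :
    base G ≤ normalizer ((Cfsg.pLayer 2 G ⊔ Cfsg.oddCore G ⊔ coreCent (sylowBase T) : Subgroup G) : Set G) := by
  set N := Cfsg.pLayer 2 G ⊔ Cfsg.oddCore G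
  haveI : N.Normal := by
    haveI := pLayer_normal (G := G) 2
    unfold N Cfsg.oddCore
    infer_instance
  refine (base_le T).trans (sup_le (le_sup_left.trans le_normalizer) ?_)
  exact le_trans (le_inf le_normalizer_of_normal
    (le_normalizer.trans (normalizer_le_normalizer_coreCent _))) (normalizer_inf_normalizer_le_normalizer_sup _ _)

theorem extendedTwoLayer_eq :
    Cfsg.extendedTwoLayer G = Cfsg.pLayer 2 G ⊔ Cfsg.oddCore G ⊔ coreCent (sylowBase T) := by
  refine le_antisymm (sup_le le_sup_left (iSup_le fun T' => ?_))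
    (sup_le_sup_left (le_iSup (fun T : Sylow 2 ↥(base G) => coreCent (sylowBase T)) T) _)
  haveI : Fact (Nat.Prime 2) := ⟨Nat.prime_two⟩
  obtain ⟨g, hg⟩ := MulAction.exists_smul_eq ↥(base G) T T'
  have hTT : sylowBase T' = (sylowBase T).map (MulAut.conj (g : G)).toMonoidHom := by
    rw [← hg]
    unfold sylowBase
    rw [Sylow.coe_subgroup_smul]
    ext y
    constructor
    · rintro ⟨z, hz, rfl⟩
      obtain ⟨w, hw, rfl⟩ := hz
      exact ⟨w, ⟨w, hw, rfl⟩, rfl⟩
    · rintro ⟨_, ⟨w, hw, rfl⟩, rfl⟩
      exact ⟨g * w * g⁻¹, ⟨w, hw, rfl⟩, rfl⟩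
  show coreCent (sylowBase T') ≤ _
  set Y := Cfsg.pLayer 2 G ⊔ Cfsg.oddCore G ⊔ coreCent (sylowBase T)
  intro x hx
  have h1 := coreCent_map_equiv_le (MulAut.conj ((g : G)⁻¹)) (sylowBase T') ⟨x, hx, rfl⟩
  have h2 : (sylowBase T').map (MulAut.conj ((g : G)⁻¹)).toMonoidHom = sylowBase T := by
    rw [hTT, Subgroup.map_map]
    convert Subgroup.map_id (sylowBase T)
    ext y
    simp [mul_assoc]
  rw [h2] at h1
  have h3 : (g : G)⁻¹ * x * (g : G) ∈ Y := by simpa using (le_sup_right : _ ≤ Y) h1
  have := (mem_normalizer_iff.1 (base_le_normalizer T g.2) _).1 h3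
  simpa [mul_assoc] using this

theorem extendedTwoLayer_normal : (Cfsg.extendedTwoLayer G).Normal := by
  haveI : Fact (Nat.Prime 2) := ⟨Nat.prime_two⟩
  obtain ⟨T⟩ := (inferInstance : Nonempty (Sylow 2 ↥(base G)))
  rw [extendedTwoLayer_eq T]
  set Y := Cfsg.pLayer 2 G ⊔ Cfsg.oddCore G ⊔ coreCent (sylowBase T)
  -- Frattini argument
  haveI := base_normal (G := G)
  have hfr : normalizer (sylowBase T : Set G) ⊔ base G = ⊤ := Sylow.normalizer_sup_eq_top T
  rw [← normalizer_eq_top_iff, eq_top_iff, ← hfr, sup_le_iff]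
  refine ⟨?_, base_le_normalizer T⟩
  haveI : (Cfsg.pLayer 2 G ⊔ Cfsg.oddCore G).Normal := by
    haveI := pLayer_normal (G := G) 2
    unfold Cfsg.oddCore
    infer_instance
  exact (le_inf le_normalizer_of_normal (normalizer_le_normalizer_coreCent _)).trans
    (normalizer_inf_normalizer_le_normalizer_sup _ _)

theorem pComponent_le_normalizer {K : Subgroup G} (hK : Cfsg.IsPComponent 2 K) :
    Cfsg.extendedTwoLayer G ≤ normalizer (K : Set G) := by
  haveI : Fact (Nat.Prime 2) := ⟨Nat.prime_two⟩
  obtain ⟨T⟩ := (inferInstance : Nonempty (Sylow 2 ↥(base G)))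
  rw [extendedTwoLayer_eq T]
  set f := QuotientGroup.mk' (Cfsg.pPrimeCore 2 G) with hf
  refine sup_le (sup_le (PComp.pLayer_le_normalizer 2 hK) ?_) ?_
  · intro x hx
    refine PComp.normalizer_map_le 2 hK ?_
    show f x ∈ normalizer ((K.map f : Subgroup _) : Set (G ⧸ Cfsg.pPrimeCore 2 G))
    rw [show f x = 1 from (QuotientGroup.eq_one_iff x).2 hx]
    exact one_mem _
  intro x hx
  refine PComp.normalizer_map_le 2 hK ?_
  show f x ∈ normalizer ((K.map f : Subgroup _) : Set (G ⧸ Cfsg.pPrimeCore 2 G))
  rw [mem_normalizer_iff_map_conj_eq]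
  have hcomp : Cfsg.IsComponent ((K.map f).map (MulAut.conj (f x)).toMonoidHom) :=
    Comp.component_map_equiv (MulAut.conj (f x)) hK.2.1
  rcases Comp.component_eq_or_commute hK.2.1 hcomp with h | h
  · exact h.symm
  exfalso
  -- the Sylow subgroup `T ∩ K` maps into the centre of the component
  have hKb : K ≤ base G := (PComp.pComponent_le_pLayer 2 hK).trans le_sup_left
  have hi : ((sylowBase T).relIndex K).Coprime 2 := by
    have h0 := coprime_relIndex_inf_of_subnormal (H := K.subgroupOf (base G)) hK.1.subgroupOf T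
    rwa [← relIndex_map_map_of_injective (T : Subgroup ↥(base G)) (K.subgroupOf (base G))
      (base G).subtype_injective, map_subgroupOf_eq_of_le hKb] at h0
  set S := ((sylowBase T ⊓ K).map f).subgroupOf (K.map f)
  have hSc : S ≤ center ↥(K.map f) := by
    rintro ⟨s, hs⟩ (hsS : s ∈ (sylowBase T ⊓ K).map f)
    obtain ⟨t, ht, rfl⟩ := hsS
    refine mem_center_iff.2 fun y => Subtype.ext ?_
    have ht2 : f t ∈ (K.map f).map (MulAut.conj (f x)).toMonoidHom := by
      refine ⟨f t, mem_map_of_mem f ht.2, ?_⟩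
      have hxt := mem_centralizer_iff.1 (coreCent_le _ hx) t ht.1
      show f x * f t * (f x)⁻¹ = f t
      rw [← map_mul, ← hxt, map_mul, mul_inv_cancel_right]
    rw [commutator_eq_bot_iff_le_centralizer] at h
    exact (mem_centralizer_iff.1 (h y.2) (f t) ht2).symm
  have hidx : (center ↥(K.map f)).index.Coprime 2 := by
    refine Nat.Coprime.coprime_dvd_left ((index_dvd_of_le hSc).trans ?_) hi
    show ((sylowBase T ⊓ K).map f).relIndex (K.map f) ∣ _
    rw [← inf_relIndex_right (sylowBase T) K]
    set S' := sylowBase T ⊓ K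
    show ((S'.map f).subgroupOf (K.map f)).index ∣ (S'.subgroupOf K).index
    have e : (S'.map f).subgroupOf (K.map f) = (S'.subgroupOf K).map (MonoidHom.subgroupMap f K) := by
      ext y
      constructor
      · rintro ⟨z, hz, hzy⟩
        exact ⟨⟨z, hz.2⟩, hz, Subtype.ext hzy⟩
      · rintro ⟨z, hz, rfl⟩
        exact ⟨z, hz, rfl⟩
    rw [e]
    exact index_map_dvd _ (MonoidHom.subgroupMap_surjective f K)
  exact Comp.quasisimple_center_ne_top hK.2.1.2 (PComp.normal_eq_top_of_index 2 hK.2.1.2
    (PComp.component_pPrimeCore_eq_bot 2 hK.2.1.1 (Fitting.pPrimeCore_quotient_eq_bot 2)) inferInstance hidx)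

end CfsgLib.ExtTwoLayer
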